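import Cfsg.Agent.Lib.SolvBlockBound.Class
import Mathlib.LinearAlgebra.Matrix.SpecialLinearGroup
import Mathlib.GroupTheory.Index
import Mathlib.GroupTheory.GroupAction.CardCommute
import Mathlib.Data.ZMod.Basic

/-! Small groups. -/

set_option autoImplicit false
set_option linter.style.haveILetI false
set_option maxRecDepth 20000

namespace Cfsg.Agent.SolvBlockBound

theorem cc_perm_three : cc (Equiv.Perm (Fin 3)) ≤ 3 := by
  rw [cc, Nat.card_eq_fintype_card]; decide +kernel

/-- Groups acting faithfully on three points. -/
theorem cc_le_three {L X : Type*} [Group L] [Finite L] [Finite X] (hX : Nat.card X ≤ 3) (f : L →* Equiv.Perm X)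
    (hf : Function.Injective f) : cc L ≤ 3 := by
  haveI := Fintype.ofFinite X
  obtain ⟨e⟩ : Nonempty (X ↪ Fin 3) := Function.Embedding.nonempty_of_card_le (by
    rw [Fintype.card_fin, ← Nat.card_eq_fintype_card]; exact hX)
  let g : L →* Equiv.Perm (Fin 3) := (Equiv.Perm.viaEmbeddingHom e).comp f
  have hg : Function.Injective g := (Equiv.Perm.viaEmbeddingHom_injective e).comp hf
  have h6 : Nat.card L ∣ 6 := (Subgroup.card_dvd_of_injective g hg).trans (by
    rw [Nat.card_perm, Nat.card_fin]; rfl)
  have := cc_le_card L
  rcases le_or_gt (Nat.card L) 3 with h | h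
  · omega
  · have h6' : Nat.card L = 6 := by
      have := Nat.le_of_dvd (by norm_num) h6
      interval_cases Nat.card L <;> omega
    have hb : Function.Bijective g := hg.bijective_of_nat_card_le (by rw [Nat.card_perm, Nat.card_fin, h6']; rfl)
    exact (cc_congr (MulEquiv.ofBijective g hb)).le.trans cc_perm_three

/-- `SL(2,3)`. -/
abbrev SLTwoThree := Matrix.SpecialLinearGroup (Fin 2) (ZMod 3)

theorem cc_slTwoThree : cc SLTwoThree ≤ 7 := by
  rw [cc, Nat.card_eq_fintype_card]; decide +kernel

theorem slTwoThree_gen : ∀ g : SLTwoThree, ∃ a b : SLTwoThree, a * a * (b * b) = g := by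
  decide +kernel

theorem card_slTwoThree : Nat.card SLTwoThree = 24 := by rw [Nat.card_eq_fintype_card]; decide +kernel

theorem cc_sub_slTwoThree (S : Subgroup SLTwoThree) : cc S ≤ 9 := by
  have h24 : Nat.card S * S.index = 24 := by rw [S.card_mul_index, card_slTwoThree]
  have := cc_le_card S
  by_contra hc
  have hlt : S.index ≤ 2 := by
    by_contra h
    have := Nat.mul_le_mul_left (Nat.card S) (show 3 ≤ S.index by omega)
    omega
  have htop : S = ⊤ := by
    rcases Nat.lt_or_ge S.index 2 with h | h
    · exact Subgroup.index_eq_one.mp (by have := S.index_ne_zero_of_finite; omega)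
    · have h2 : S.index = 2 := by omega
      refine (Subgroup.eq_top_iff' S).mpr fun g => ?_
      obtain ⟨a, b, rfl⟩ := slTwoThree_gen g
      exact mul_mem (Subgroup.mul_self_mem_of_index_two h2 a) (Subgroup.mul_self_mem_of_index_two h2 b)
  subst htop
  have := (cc_congr (Subgroup.topEquiv (G := SLTwoThree))).le.trans cc_slTwoThree
  omega

/-- Class number from centralizers outside an abelian subgroup. -/
theorem cc_le_of_centralizers {L : Type*} [Group L] [Finite L] (A : Subgroup L) {c : ℕ}
    (h : ∀ g : L, g ∉ A → Nat.card (Subgroup.centralizer ({g} : Set L)) ≤ c) : cc L ≤ Nat.card A + c := by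
  classical
  haveI := Fintype.ofFinite L
  refine Nat.le_of_mul_le_mul_right ?_ (Nat.card_pos (α := L))
  rw [cc, ← card_comm_eq_card_conjClasses_mul_card,
    Nat.card_congr (Equiv.subtypeProdEquivSigmaSubtype fun x y : L => Commute x y), Nat.card_sigma, add_mul]
  have hC : ∀ g : L, Nat.card {y : L // Commute g y} = Nat.card (Subgroup.centralizer ({g} : Set L)) := fun g =>
    Nat.card_congr (Equiv.subtypeEquivRight fun y => by
      rw [Subgroup.mem_centralizer_singleton_iff]
      exact ⟨fun h => h.eq.symm, fun h => h.symm⟩)
  calc ∑ g : L, Nat.card {y : L // Commute g y}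
      ≤ ∑ g : L, ((if g ∈ A then Nat.card L else 0) + c) := Finset.sum_le_sum fun g _ => by
        rw [hC]
        split_ifs with hg
        · exact le_add_right (Subgroup.card_le_card_group _)
        · simpa using h g hg
    _ = Nat.card A * Nat.card L + c * Nat.card L := by
      rw [Finset.sum_add_distrib, Finset.sum_const, ← Finset.sum_filter, Finset.sum_const,
        Nat.card_eq_fintype_card (α := L), Nat.card_eq_fintype_card (α := A), ← Fintype.card_coe]
      simp [Fintype.card_subtype, mul_comm]

end Cfsg.Agent.SolvBlockBound
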