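import Cfsg.Agent.Lib.SolvBlockBound.Class
import Cfsg.Agent.Lib.CharApp.Clifford
import Cfsg.Agent.Lib.CentralChar.Twist
import Cfsg.Agent.Lib.BlocksNormal.Cover
import Cfsg.Agent.Lib.BrauerPairs.Basic
import Cfsg.Agent.Lib.Char.Inner
import Cfsg.Agent.S0886

/-! Characters over an invariant character are at most as many as the classes of the quotient. -/

set_option autoImplicit false
set_option linter.style.haveILetI false

namespace Cfsg.Agent.SolvBlockBound

open Cfsg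

universe u

variable {G : Type u} [Group G] [Fintype G]

/-- On each coset of `N` the characters over `θ` are proportional. -/
theorem exists_coset_function (N : Subgroup G) [hN : N.Normal] [Fintype N] (θ : IrrCharacter N)
    (hinv : ∀ (g : G) (n : N), (θ : N → ℂ) ⟨g * n * g⁻¹, hN.conj_mem n n.2 g⟩ = (θ : N → ℂ) n) (g : G) :
    ∃ φ : N → ℂ, ∀ χ : IrrCharacter G, classInner (fun n : N => (χ : G → ℂ) n) (θ : N → ℂ) ≠ 0 →
      ∃ k : ℂ, ∀ n : N, (χ : G → ℂ) (g * n) = φ n * k := by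
  classical
  set H : Subgroup G := N ⊔ Subgroup.zpowers g
  have hNH : N ≤ H := le_sup_left
  have hgH : g ∈ H := Subgroup.mem_sup_right (Subgroup.mem_zpowers g)
  haveI := Fintype.ofFinite H
  set N' := N.subgroupOf H
  haveI := Fintype.ofFinite N'
  set e := Subgroup.subgroupOfEquivOfLe hNH
  let θ' : IrrCharacter N' := BrauerPairs.pullIrr e θ
  haveI hcyc : IsCyclic (H ⧸ N') := by
    refine ⟨⟨((⟨g, hgH⟩ : H) : H ⧸ N'), fun q => ?_⟩⟩
    obtain ⟨⟨x, hx⟩, rfl⟩ := QuotientGroup.mk_surjective q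
    obtain ⟨n, hn, z, hz, rfl⟩ := Subgroup.mem_sup_of_normal_left.mp hx
    obtain ⟨i, rfl⟩ := Subgroup.mem_zpowers_iff.mp hz
    refine ⟨i, ?_⟩
    show ((⟨g, hgH⟩ : H) : H ⧸ N') ^ i = _
    rw [← QuotientGroup.mk_zpow, QuotientGroup.eq, Subgroup.mem_subgroupOf]
    push_cast
    have : (g ^ i)⁻¹ * (n * g ^ i) = (g ^ i)⁻¹ * n * ((g ^ i)⁻¹)⁻¹ := by group
    rw [this]
    exact hN.conj_mem n hn _
  obtain ⟨χ₀, hχ₀, hres⟩ := S0886.result N' hcyc (θ' : N' → ℂ) θ'.2 (fun h n => hinv (h : G) (e n))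
  refine ⟨fun n => χ₀ (⟨g, hgH⟩ * ⟨n, hNH n.2⟩), fun χ hover => ?_⟩
  haveI := Fintype.ofFinite (IrrCharacter H)
  haveI := Fintype.ofFinite (IrrCharacter N')
  have hrestrict : (fun n : N => (χ : G → ℂ) n) = classInner (fun n : N => (χ : G → ℂ) n) (θ : N → ℂ) • (θ : N → ℂ) :=
    CharApp.restrict_invariant N χ.2 θ.2 hover fun x => funext fun n => by
      have := hinv x⁻¹ n
      rw [CliffordChar.conjFun_apply]
      simpa using this
  set cN := classInner (fun n : N => (χ : G → ℂ) n) (θ : N → ℂ)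
  have hπ : IsCharacter H (fun x : H => (χ : G → ℂ) x) :=
    Char.IsCharacter.restrict (Char.IsIrrCharacter.isCharacter χ.2) H
  obtain ⟨c, hc, hin⟩ := Char.IsCharacter.decompose hπ
  -- constituents lie over `θ`
  have hη : ∀ η : IrrCharacter H, ∃ b : ℂ, c η ≠ 0 → ∀ n : N',
      (η : H → ℂ) (⟨g, hgH⟩ * n) = χ₀ (⟨g, hgH⟩ * n) * b := by
    intro η
    by_cases hc0 : c η = 0
    · exact ⟨0, fun h => absurd hc0 h⟩
    have hη1 : IsCharacter N' (fun n : N' => (η : H → ℂ) n) :=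
      Char.IsCharacter.restrict (Char.IsIrrCharacter.isCharacter η.2) N'
    obtain ⟨ψ, hψ⟩ := BlocksNormal.exists_constituent (N := N') η
    have hψθ : ψ = θ' := by
      by_contra hne
      refine hψ ?_
      have hd : ∀ φ : IrrCharacter H, ∃ m : ℕ, classInner (fun n : N' => (φ : H → ℂ) n) (ψ : N' → ℂ) = m := fun φ => by
        obtain ⟨d, -, hd⟩ := Char.IsCharacter.decompose
          (Char.IsCharacter.restrict (Char.IsIrrCharacter.isCharacter φ.2) N')
        exact ⟨d ψ, hd ψ⟩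
      choose d hd using hd
      have h0 : classInner (fun n : N' => (χ : G → ℂ) ((n : H) : G)) (ψ : N' → ℂ) = 0 := by
        rw [show (fun n : N' => (χ : G → ℂ) ((n : H) : G)) = cN • (θ' : N' → ℂ) from
          funext fun n => congrFun hrestrict (e n), Char.classInner_smul_left,
          Char.classInner_irr_of_ne θ'.2 ψ.2 (fun h => hne (Subtype.ext h.symm)), mul_zero]
      rw [show (fun n : N' => (χ : G → ℂ) ((n : H) : G)) =
          ∑ φ : IrrCharacter H, (c φ : ℂ) • (fun n : N' => (φ : H → ℂ) n) from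
        funext fun n => by simpa [Finset.sum_apply] using congrFun hc (n : H), Char.classInner_sum_left] at h0
      simp only [Char.classInner_smul_left, hd] at h0
      have h1 : ∑ φ : IrrCharacter H, c φ * d φ = 0 := by exact_mod_cast h0
      rw [hd η, (mul_eq_zero.mp (Finset.sum_eq_zero_iff.mp h1 η (Finset.mem_univ η))).resolve_left hc0, Nat.cast_zero]
    subst hψθ
    obtain ⟨β, hβ, hβN, hφ⟩ := CharApp.gallagher_exhaustive N' hχ₀
      (show IsIrrCharacter N' (fun n : N' => χ₀ n) by rw [funext hres]; exact θ'.2) η.2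
      (by rw [show (fun n : N' => χ₀ n) = (θ' : N' → ℂ) from funext hres]; exact hψ)
    obtain ⟨ψ', hψ'⟩ := CentralChar.exists_deflation N' ⟨β, hβ⟩ fun n hn => hβN ⟨n, hn⟩
    refine ⟨β ⟨g, hgH⟩, fun _ n => ?_⟩
    rw [show (η : H → ℂ) (⟨g, hgH⟩ * n) = χ₀ (⟨g, hgH⟩ * n) * β (⟨g, hgH⟩ * n) from congrFun hφ _]
    congr 1
    rw [show β (⟨g, hgH⟩ * (n : H)) = _ from hψ' _, show β (⟨g, hgH⟩ : H) = _ from hψ' _, QuotientGroup.mk_mul,
      (QuotientGroup.eq_one_iff _).mpr n.2, mul_one]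
  choose b hb using hη
  refine ⟨∑ η : IrrCharacter H, (c η : ℂ) * b η, fun n => ?_⟩
  have h := congrFun hc (⟨g, hgH⟩ * ⟨n, hNH n.2⟩)
  simp only [Finset.sum_apply, Pi.smul_apply, smul_eq_mul, Subgroup.coe_mul] at h
  rw [h, Finset.mul_sum]
  refine Finset.sum_congr rfl fun η _ => ?_
  by_cases hc0 : c η = 0
  · simp [hc0]
  · rw [hb η hc0 ⟨⟨n, hNH n.2⟩, n.2⟩]
    ring

/-- `|Irr(G|θ)| ≤ k(G/N)`. -/
theorem card_over_le (N : Subgroup G) [hN : N.Normal] [Fintype N] (θ : IrrCharacter N)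
    (hinv : ∀ (g : G) (n : N), (θ : N → ℂ) ⟨g * n * g⁻¹, hN.conj_mem n n.2 g⟩ = (θ : N → ℂ) n) :
    Nat.card {χ : IrrCharacter G // classInner (fun n : N => (χ : G → ℂ) n) (θ : N → ℂ) ≠ 0} ≤ cc (G ⧸ N) := by
  classical
  set ι := {χ : IrrCharacter G // classInner (fun n : N => (χ : G → ℂ) n) (θ : N → ℂ) ≠ 0}
  haveI := Fintype.ofFinite (IrrCharacter G)
  haveI := Fintype.ofFinite ι
  haveI := Fintype.ofFinite (ConjClasses (G ⧸ N))
  choose φ hφ using exists_coset_function N θ hinv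
  have hrep : ∀ C : ConjClasses (G ⧸ N), ∃ g : G, ConjClasses.mk (g : G ⧸ N) = C := fun C => by
    obtain ⟨q, rfl⟩ := ConjClasses.mk_surjective C
    obtain ⟨g, rfl⟩ := QuotientGroup.mk_surjective q
    exact ⟨g, rfl⟩
  choose rep hrep using hrep
  have hpick : ∀ g : G, ∃ n : N, φ g n = 0 → ∀ m : N, φ g m = 0 := fun g => by
    by_cases h : ∀ m : N, φ g m = 0
    · exact ⟨1, fun _ => h⟩
    · push Not at h
      obtain ⟨n, hn⟩ := h
      exact ⟨n, fun h0 => absurd h0 hn⟩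
  choose pick hpick using hpick
  let v : ι → (ConjClasses (G ⧸ N) → ℂ) := fun χ C => (χ.1 : G → ℂ) (rep C * pick (rep C))
  have hv : LinearIndependent ℂ v := by
    rw [Fintype.linearIndependent_iff]
    intro a ha
    have hfun : ∀ x : G, ∑ χ : ι, a χ * (χ.1 : G → ℂ) x = 0 := by
      intro x
      set C := ConjClasses.mk (x : G ⧸ N) with hC
      obtain ⟨q, hq⟩ := isConj_iff.mp (ConjClasses.mk_eq_mk_iff_isConj.mp ((hC ▸ hrep C) :
        ConjClasses.mk (rep C : G ⧸ N) = ConjClasses.mk (x : G ⧸ N)))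
      obtain ⟨h, rfl⟩ := QuotientGroup.mk_surjective q
      have hn : (rep C)⁻¹ * (h⁻¹ * x * h) ∈ N := by
        rw [← QuotientGroup.eq_one_iff, QuotientGroup.mk_mul, QuotientGroup.mk_inv, QuotientGroup.mk_mul,
          QuotientGroup.mk_mul, QuotientGroup.mk_inv, ← hq]
        group
      have hx : ∀ χ : ι, (χ.1 : G → ℂ) x = (χ.1 : G → ℂ) (rep C * (⟨_, hn⟩ : N)) := fun χ => by
        rw [show (rep C * ((⟨_, hn⟩ : N) : G) : G) = h⁻¹ * x * h⁻¹⁻¹ by simp [mul_assoc]]
        exact (Char.IsIrrCharacter.isClassFunction χ.1.2 x h⁻¹).symm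
      choose k hk using fun χ : ι => hφ (rep C) χ.1 χ.2
      have h0 := congrFun ha C
      simp only [Finset.sum_apply, Pi.smul_apply, smul_eq_mul, Pi.zero_apply, v, hk] at h0
      have hgoal : ∑ χ : ι, a χ * (χ.1 : G → ℂ) x = φ (rep C) ⟨_, hn⟩ * ∑ χ : ι, a χ * k χ := by
        rw [Finset.mul_sum]
        refine Finset.sum_congr rfl fun χ _ => ?_
        rw [hx χ, hk χ]; ring
      rw [hgoal]
      rw [← Finset.sum_congr rfl fun χ _ => (mul_left_comm (φ (rep C) _) (a χ) (k χ)), ← Finset.mul_sum] at h0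
      rcases mul_eq_zero.mp h0 with h1 | h1
      · rw [hpick _ h1, zero_mul]
      · rw [h1, mul_zero]
    exact Fintype.linearIndependent_iff.mp
      ((Char.linearIndependent_irr (G := G)).comp (fun χ : ι => χ.1) Subtype.val_injective) a
      (funext fun x => by simpa [Finset.sum_apply] using hfun x)
  have h := hv.fintype_card_le_finrank
  rwa [Module.finrank_fintype_fun_eq_card, ← Nat.card_eq_fintype_card, ← Nat.card_eq_fintype_card] at h

end Cfsg.Agent.SolvBlockBound
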