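import Cfsg.Agent.Lib.SolvBlockBound.Chief
import Cfsg.Agent.Lib.SolvBlockBound.Count
import Cfsg.Agent.Lib.Fong.Setup
import Cfsg.Agent.Lib.Blocks.CoverDefect
import Cfsg.Agent.S4439
import Cfsg.Agent.S4492

/-! Fong's reduction for the size of a block of a solvable group. -/

set_option autoImplicit false
set_option linter.style.haveILetI false

namespace Cfsg.Agent.SolvBlockBound

open Cfsg Cfsg.Agent.Blocks

universe u

variable {p : ℕ} [Fact p.Prime] {M : Ideal AlgInt}

/-- The invariant case. -/
theorem block_invariant (hM : IsPModular p M) {G : Type u} [Group G] [Fintype G] [Group.IsSolvable G]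
    (N : Subgroup G) [hN : N.Normal] [Fintype N] (hNdef : N = pPrimeCore p G) (θ : IrrCharacter N)
    (hinv : ∀ (g : G) (n : N), (θ : N → ℂ) ⟨g * n * g⁻¹, hN.conj_mem n n.2 g⟩ = (θ : N → ℂ) n)
    (B : Set (IrrCharacter G)) (hB : IsPBlock M B) (χ : IrrCharacter G) (hχ : χ ∈ B)
    (hover : classInner (fun n : N => (χ : G → ℂ) n) (θ : N → ℂ) ≠ 0) (hd : 0 < blockDefect p B) :
    Set.ncard B * 3 ≤ (3 * p) ^ blockDefect p B := by
  classical
  obtain ⟨B₀, hB₀, hmem, hsyl, -⟩ :=
    S4492.result p M hM (ClassIndex.isPSolvable_of_isSolvable G inferInstance) N hNdef θ hinv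
  obtain rfl : B = B₀ := isPBlock_eq_of_mem hM hB hB₀ hχ ((hmem χ).mpr hover)
  obtain ⟨P⟩ : Nonempty (Sylow p G) := inferInstance
  have hdef : blockDefect p B = (Nat.card G).factorization p := by
    refine Nat.pow_right_injective (Fact.out : p.Prime).two_le ?_
    show p ^ blockDefect p B = p ^ (Nat.card G).factorization p
    rw [← card_defectGroup hM hB (hsyl P), P.card_eq_multiplicity]
  have hQ : pPrimeCore p (G ⧸ N) = ⊥ := by
    subst hNdef
    exact Cores.pPrimeCore_quotient_self p
  have hfac : (Nat.card (G ⧸ N)).factorization p = (Nat.card G).factorization p := by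
    rw [Subgroup.card_eq_card_quotient_mul_card_subgroup N, Nat.factorization_mul Nat.card_pos.ne' Nat.card_pos.ne',
      Finsupp.add_apply]
    have h0 : ¬ p ∣ Nat.card N := by subst hNdef; exact Fong.not_dvd_card_pPrimeCore
    rw [Nat.factorization_eq_zero_of_not_dvd h0, add_zero]
  have hnt : Nontrivial (G ⧸ N) := by
    by_contra h
    rw [not_nontrivial_iff_subsingleton] at h
    have h1 : Nat.card (G ⧸ N) = 1 := Nat.card_eq_one_iff_unique.mpr ⟨h, inferInstance⟩
    rw [h1, Nat.factorization_one, Finsupp.coe_zero, Pi.zero_apply, ← hdef] at hfac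
    omega
  have hcount : Set.ncard B ≤ cc (G ⧸ N) := by
    rw [← Nat.card_coe_set_eq, Nat.card_congr (Equiv.subtypeEquivRight hmem)]
    exact card_over_le N θ hinv
  calc Set.ncard B * 3 ≤ cc (G ⧸ N) * 3 := Nat.mul_le_mul_right _ hcount
    _ ≤ (3 * p) ^ (Nat.card (G ⧸ N)).factorization p := cc_le_of_core (p := p) _ (G ⧸ N) rfl hnt hQ
    _ = _ := by rw [hfac, hdef]

/-- The induction on the group order. -/
theorem block_aux (hM : IsPModular p M) :
    ∀ m : ℕ, ∀ (G : Type u) [Group G] [Fintype G] [Group.IsSolvable G], Nat.card G = m →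
      ∀ (B : Set (IrrCharacter G)), IsPBlock M B → 0 < blockDefect p B →
      Set.ncard B * 3 ≤ (3 * p) ^ blockDefect p B := by
  classical
  intro m
  induction m using Nat.strong_induction_on with
  | _ m ih =>
    intro G _ _ _ hm B hB hd
    obtain ⟨χ, hχ⟩ := isPBlock_nonempty hM hB
    set N := pPrimeCore p G with hNdef
    have := Fintype.ofFinite N
    haveI : N.Normal := Cores.pPrimeCore_normal p G
    obtain ⟨θ, hθ⟩ := BlocksNormal.exists_constituent N χ
    set T := CharApp.inertia N (θ : N → ℂ) with hTdef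
    by_cases hT : T = ⊤
    · exact block_invariant hM N hNdef θ
        (fun g n => (CharApp.mem_inertia_iff N).mp (hT ▸ Subgroup.mem_top g : g ∈ T) n) B hB χ hχ hθ hd
    · have := Fintype.ofFinite T
      have hNT : N ≤ T := CharApp.le_inertia N (Char.IsIrrCharacter.isClassFunction θ.2)
      have hb : IsPBlock M ({θ} : Set (IrrCharacter N)) :=
        Fong.isPBlock_singleton hM Fong.not_dvd_card_pPrimeCore θ
      have hstab : FongReynolds.IsBlockStab N T ({θ} : Set (IrrCharacter N)) := fun g => by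
        rw [hTdef, CharApp.mem_inertia_iff N]
        refine ⟨fun h θ₁ hθ₁ θ' hθ' => ?_, fun h n => ?_⟩
        · rw [Set.mem_singleton_iff] at hθ₁ ⊢
          subst hθ₁
          exact Subtype.ext (funext fun n => (hθ' n).trans (h n))
        · let θ' : IrrCharacter N := BrauerPairs.pullIrr (MulAut.conjNormal g) θ
          have h1 := h θ rfl θ' fun n => rfl
          rw [Set.mem_singleton_iff] at h1
          exact congrFun (congrArg Subtype.val h1) n
      obtain ⟨η, hη, hind⟩ := CharApp.OverStab.exists_under N T hNT θ.2 le_rfl χ.2 hθ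
      set B' := blockOf M (η : T → ℂ)
      have hB' : IsPBlock M B' := ⟨η, rfl⟩
      have hηB' : η ∈ B' := mem_blockOf_self hM η
      have hBeq : B = blockOf M (χ : G → ℂ) := isPBlock_eq_blockOf hM hB hχ
      have hi : IsInducedBlock M T B' B :=
        hBeq ▸ FongReynolds.isInducedBlock hM hb hstab hB' hηB' hind
      have hcov : FongReynolds.Covers N T hNT B' {θ} := ⟨η, hηB', θ, rfl, hη⟩
      have hdeg := (CoverDefect.fong_reynolds_degrees hM hb hstab hNT hB' hcov hi).1
      obtain ⟨B₀, hB₀, -, -, hmem⟩ := (FongReynolds.fong_reynolds hNT hM hb hstab).1 B' hB' hcov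
      obtain rfl := SecondMain.induced_unique hM hi hB₀
      have hle : Set.ncard B ≤ Set.ncard B' := by
        choose f hf1 hf2 using fun χ (h : χ ∈ B) => (hmem χ).1 h
        refine Set.ncard_le_ncard_of_injOn (fun χ => if h : χ ∈ B then f χ h else η) ?_ ?_ (Set.toFinite _)
        · intro χ h
          simp only [dif_pos h]; exact hf1 χ h
        · intro χ₁ h₁ χ₂ h₂ he
          simp only [dif_pos h₁, dif_pos h₂] at he
          exact Subtype.ext (by rw [hf2 χ₁ h₁, hf2 χ₂ h₂, he])
      rw [hdeg] at hd ⊢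
      refine (Nat.mul_le_mul_right _ hle).trans (ih (Nat.card T) ?_ T rfl B' hB' hd)
      rw [← hm]
      refine lt_of_le_of_ne (Nat.le_of_dvd Nat.card_pos T.card_subgroup_dvd_card) fun h => hT ?_
      exact T.eq_top_of_card_eq h

theorem block_le {G : Type u} [Group G] [Finite G] (hsolv : Group.IsSolvable G) (hM : IsPModular p M)
    (B : Set (IrrCharacter G)) (hB : IsPBlock M B) (hd : 0 < blockDefect p B) :
    Set.ncard B ≤ 3 ^ (blockDefect p B - 1) * p ^ blockDefect p B := by
  haveI := hsolv
  haveI := Fintype.ofFinite G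
  refine Nat.le_of_mul_le_mul_right ?_ (show 0 < 3 by norm_num)
  refine (block_aux hM _ G rfl B hB hd).trans (le_of_eq ?_)
  obtain ⟨k, hk⟩ : ∃ k, blockDefect p B = k + 1 := ⟨_, (Nat.succ_pred_eq_of_pos hd).symm⟩
  rw [hk, Nat.add_sub_cancel, mul_pow, pow_succ]
  ring

end Cfsg.Agent.SolvBlockBound
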