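import Cfsg.Agent.Lib.SolvBlockBound.Semidirect
import Cfsg.Agent.S4965
import Cfsg.Agent.Lib.HallHigman.PSolvable
import Cfsg.Agent.Lib.BurnsideBasis.Basic
import Cfsg.Agent.Lib.ClassIndex.PSolvable

/-! Class numbers of solvable groups without normal `p'`-subgroups. -/

set_option autoImplicit false
set_option linter.style.haveILetI false

namespace Cfsg.Agent.SolvBlockBound

open scoped IsMulCommutative commutatorElement

universe u

variable {p : ℕ} [Fact p.Prime]

/-- A self-centralizing elementary abelian normal Sylow subgroup. -/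
theorem cc_le_of_elementary {Z : Type u} [Group Z] [Finite Z] [Group.IsSolvable Z] (V : Subgroup Z) [V.Normal]
    [Nontrivial V] (hcomm : ∀ a ∈ V, ∀ b ∈ V, a * b = b * a) (hexp : ∀ v ∈ V, v ^ p = 1) (hidx : ¬ p ∣ V.index)
    (hC : Subgroup.centralizer (V : Set Z) ≤ V) {m : ℕ} (hm : Nat.card V = p ^ m) : cc Z * 3 ≤ (3 * p) ^ m := by
  haveI : IsMulCommutative V := ⟨⟨fun a b => Subtype.ext (hcomm a a.2 b b.2)⟩⟩
  have hle : V ≤ (MulAut.conjNormal (H := V)).ker := fun v hv => by
    rw [MonoidHom.mem_ker]
    refine MulEquiv.ext fun w => Subtype.ext ?_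
    rw [MulAut.conjNormal_apply, hcomm v hv w w.2, mul_inv_cancel_right]
    rfl
  let φ : Z ⧸ V →* MulAut V := QuotientGroup.lift V MulAut.conjNormal hle
  have hφ : ∀ (x : Z) (v : V), ((φ (QuotientGroup.mk x) v : V) : Z) = x * v * x⁻¹ := fun x v => rfl
  haveI : Module (ZMod p) (Additive V) := modOf (r := p) V hexp
  let ρ : Z ⧸ V →* (Additive V ≃ₗ[ZMod p] Additive V) := QuotientGroup.lift V (conjRep (r := p) V) fun v hv => by
    rw [MonoidHom.mem_ker, conjRep_eq_one_iff]
    exact fun x hx => hcomm v hv x hx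
  have hρ : Function.Injective ρ := by
    rw [← MonoidHom.ker_eq_bot_iff, Subgroup.eq_bot_iff_forall]
    intro q hq
    obtain ⟨x, rfl⟩ := QuotientGroup.mk_surjective q
    rw [QuotientGroup.eq_one_iff]
    refine hC (Subgroup.mem_centralizer_iff.mpr fun v hv => ?_)
    exact ((conjRep_eq_one_iff V x).mp hq v hv).symm
  have h1 := S4965.result V hcomm φ hφ
  let fn : V ≃* Multiplicative (Additive V) :=
    { toFun := fun x => Multiplicative.ofAdd (Additive.ofMul x)
      invFun := fun x => x.toAdd.toMul
      left_inv := fun x => rfl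
      right_inv := fun x => rfl
      map_mul' := fun x y => rfl }
  let E : SemidirectProduct V (Z ⧸ V) φ ≃* Sdp ρ :=
    SemidirectProduct.congr fn (MulEquiv.refl _) fun q => by
      obtain ⟨x, rfl⟩ := QuotientGroup.mk_surjective q
      ext v
      rfl
  haveI : Finite (SemidirectProduct V (Z ⧸ V) φ) := Finite.of_equiv _ SemidirectProduct.equivProd.symm
  have hD : Module.finrank (ZMod p) (Additive V) = m := by
    have h := Module.natCard_eq_pow_finrank (K := ZMod p) (V := Additive V)
    rw [Nat.card_zmod, Nat.card_congr Additive.toMul, hm] at h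
    exact (Nat.pow_right_injective (Fact.out : p.Prime).two_le h).symm
  have h2 := kv_bound (p := p) m (hD ▸ Module.finrank_pos) (Z ⧸ V) (Additive V) ρ hρ
    ⟨inferInstance, by rwa [← Subgroup.index_eq_card]⟩ hD 1 le_rfl (chain_one _)
  rw [pow_one] at h2
  exact (Nat.mul_le_mul_right _ (h1.trans (cc_congr E).le)).trans h2

/-- `k(X) ≤ 3 ^ (d - 1) * p ^ d` when `O_{p'}(X) = 1`. -/
theorem cc_le_of_core : ∀ n : ℕ, ∀ (X : Type u) [Group X] [Finite X] [Group.IsSolvable X], Nat.card X = n →
    Nontrivial X → Cfsg.pPrimeCore p X = ⊥ → cc X * 3 ≤ (3 * p) ^ (Nat.card X).factorization p := by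
  intro n
  induction n using Nat.strong_induction_on with
  | _ n IH =>
    intro X _ _ _ hn hnt hO
    classical
    have hp : p.Prime := Fact.out
    set F := Cfsg.pCore p X with hFdef
    have hcen := HallHigman.centralizer_pCore_le_of_isPSolvable
      (p := p) (G := X) (ClassIndex.isPSolvable_of_isSolvable X inferInstance) hO
    have hFne : F ≠ ⊥ := fun h => by
      obtain ⟨x, hx⟩ := exists_ne (1 : X)
      have : x ∈ F := hcen (Subgroup.mem_centralizer_iff.mpr fun y hy => by
        rw [SetLike.mem_coe, ← hFdef, h, Subgroup.mem_bot] at hy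
        rw [hy, one_mul, mul_one])
      rw [h, Subgroup.mem_bot] at this
      exact hx this
    haveI : Nontrivial F := (Subgroup.nontrivial_iff_ne_bot F).mpr hFne
    have hFp : IsPGroup p F := Cores.isPGroup_pCore p X
    set Φ : Subgroup X := (frattini F).map F.subtype with hΦ
    haveI hΦn : Φ.Normal := Cores.map_subtype_normal_of_characteristic F _
    have hΦF : Φ ≤ F := Subgroup.map_subtype_le _
    set π := QuotientGroup.mk' Φ
    set Y : Subgroup X := (Cfsg.pPrimeCore p (X ⧸ F)).comap (QuotientGroup.mk' F) with hY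
    have hFY : F ≤ Y := fun x hx => by
      rw [hY, Subgroup.mem_comap, QuotientGroup.mk'_apply, (QuotientGroup.eq_one_iff x).mpr hx]
      exact one_mem _
    have hYF : ¬ p ∣ F.relIndex Y := by
      have h1 : F.relIndex Y = Nat.card (Cfsg.pPrimeCore p (X ⧸ F)) := by
        have h2 := Cores.card_map_mul_ker (QuotientGroup.mk' F) Y (by rw [QuotientGroup.ker_mk']; exact hFY)
        rw [QuotientGroup.ker_mk', hY, Subgroup.map_comap_eq_self_of_surjective (QuotientGroup.mk'_surjective F),
          ← hY] at h2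
        have h3 := (F.subgroupOf Y).card_mul_index
        rw [Nat.card_congr (Subgroup.subgroupOfEquivOfLe hFY).toEquiv] at h3
        refine Nat.eq_of_mul_eq_mul_right (Nat.card_pos (α := F)) ?_
        rw [h2, mul_comm]
        exact h3
      rw [h1]
      exact hp.coprime_iff_not_dvd.mp (Nat.Coprime.symm (Cores.coprime_card_pPrimeCore p))
    -- the images modulo the Frattini subgroup
    set V := F.map π with hV
    set Z := Y.map π with hZ
    have hVZ : V ≤ Z := Subgroup.map_mono hFY
    haveI : V.Normal := (inferInstance : F.Normal).map π (QuotientGroup.mk'_surjective Φ)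
    have hVcard : Nat.card V * Nat.card Φ = Nat.card F := by
      have := Cores.card_map_mul_ker π F (by rw [QuotientGroup.ker_mk']; exact hΦF)
      rwa [QuotientGroup.ker_mk'] at this
    obtain ⟨f, hf⟩ := IsPGroup.iff_card.mp hFp
    obtain ⟨i, -, hi⟩ := (Nat.dvd_prime_pow hp).mp (hf ▸ Dvd.intro_left _ hVcard : Nat.card Φ ∣ p ^ f)
    obtain ⟨m, -, hm⟩ := (Nat.dvd_prime_pow hp).mp (hf ▸ Dvd.intro _ hVcard : Nat.card V ∣ p ^ f)
    have hfim : m + i = f := Nat.pow_right_injective hp.two_le (by
      show p ^ (m + i) = p ^ f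
      rw [pow_add, ← hm, ← hi, hVcard, hf])
    have hVne : V ≠ ⊥ := fun h => by
      rw [hV, Subgroup.map_eq_bot_iff, QuotientGroup.ker_mk'] at h
      obtain ⟨M, hM, -⟩ := (eq_top_or_exists_le_coatom (⊥ : Subgroup F)).resolve_left bot_ne_top
      have : M = ⊤ := eq_top_iff.mpr fun x _ => by
        obtain ⟨y, hy, hyx⟩ := h x.2
        exact frattini_le_coatom hM (Subtype.ext hyx ▸ hy)
      exact hM.1 this
    -- the bound on the image of `Y`
    set V' := V.subgroupOf Z
    haveI : Nontrivial V' := by
      haveI : Nontrivial V := (Subgroup.nontrivial_iff_ne_bot V).mpr hVne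
      exact (Subgroup.subgroupOfEquivOfLe hVZ).toEquiv.nontrivial
    have hZle : cc Z * 3 ≤ (3 * p) ^ m := by
      refine cc_le_of_elementary V' ?_ ?_ ?_ ?_ ((Nat.card_congr (Subgroup.subgroupOfEquivOfLe hVZ).toEquiv).trans hm)
      · rintro ⟨a, ha⟩ ⟨x, hx, hxa⟩ ⟨b, hb⟩ ⟨y, hy, hyb⟩
        refine Subtype.ext ?_
        show a * b = b * a
        change π x = a at hxa
        change π y = b at hyb
        rw [← hxa, ← hyb, ← commutatorElement_eq_one_iff_mul_comm, ← map_commutatorElement, QuotientGroup.mk'_apply,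
          QuotientGroup.eq_one_iff]
        exact ⟨⁅⟨x, hx⟩, ⟨y, hy⟩⁆, BurnsideBasis.commutatorElement_mem_frattini hFp _ _,
          map_commutatorElement F.subtype _ _⟩
      · rintro ⟨a, ha⟩ ⟨x, hx, hxa⟩
        refine Subtype.ext ?_
        show a ^ p = 1
        change π x = a at hxa
        rw [← hxa, ← map_pow, QuotientGroup.mk'_apply, QuotientGroup.eq_one_iff]
        exact ⟨⟨x, hx⟩ ^ p, BurnsideBasis.pow_mem_frattini hFp _, map_pow F.subtype _ _⟩
      · intro hd
        apply hYF
        refine hd.trans ?_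
        show V.relIndex Z ∣ F.relIndex Y
        rw [hV, hZ]
        rw [Subgroup.relIndex_map_map, QuotientGroup.ker_mk', sup_eq_left.mpr hΦF, sup_eq_left.mpr (hΦF.trans hFY)]
      · rintro ⟨a, x, hx, hxa⟩ ha
        have hxF : x ∈ F := by
          refine HallHigman.mem_pCore_of_commutator_mem_frattini hcen fun y hy => ?_
          rw [← QuotientGroup.eq_one_iff]
          have h1 : π y * a = a * π y := congrArg Subtype.val
            (Subgroup.mem_centralizer_iff.mp ha (⟨π y, Subgroup.mem_map_of_mem π (hFY hy)⟩ : Z)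
              (Subgroup.mem_map_of_mem π hy))
          change π x = a at hxa
          rw [← hxa] at h1
          show π (x * y * x⁻¹ * y⁻¹) = 1
          rw [map_mul, map_mul, map_mul, map_inv, map_inv, ← h1, mul_inv_cancel_right, mul_inv_cancel]
        exact Subgroup.mem_subgroupOf.mpr (hxa ▸ Subgroup.mem_map_of_mem π hxF)
    have hYle : cc Y * 3 ≤ Nat.card Φ * (3 * p) ^ m := by
      let g : Y →* Z := π.subgroupMap Y
      have h1 := cc_le_of_exact (Subgroup.inclusion (hΦF.trans hFY)) (Subgroup.inclusion_injective _) g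
        (π.subgroupMap_surjective Y) (by
          rw [Subgroup.inclusion_range]
          ext y
          rw [Subgroup.mem_subgroupOf, MonoidHom.mem_ker]
          constructor
          · intro hy; exact Subtype.ext ((QuotientGroup.eq_one_iff _).mpr hy)
          · intro hy; exact (QuotientGroup.eq_one_iff _).mp (congrArg Subtype.val hy))
      calc cc Y * 3 ≤ cc Φ * cc Z * 3 := Nat.mul_le_mul_right _ h1
        _ ≤ _ := by rw [mul_assoc]; exact Nat.mul_le_mul (cc_le_card Φ) hZle
    -- orders
    set S := X ⧸ Y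
    have hfac : (Nat.card X).factorization p = f + (Nat.card S).factorization p := by
      have h1 : Nat.card X = p ^ f * F.relIndex Y * Nat.card S := by
        have h3 := (F.subgroupOf Y).card_mul_index
        rw [Nat.card_congr (Subgroup.subgroupOfEquivOfLe hFY).toEquiv, hf] at h3
        rw [show p ^ f * F.relIndex Y = Nat.card Y from h3, Subgroup.card_eq_card_quotient_mul_card_subgroup Y,
          mul_comm]
      have h0 : F.relIndex Y ≠ 0 := fun h => hYF (h ▸ dvd_zero p)
      rw [h1, Nat.factorization_mul (Nat.mul_ne_zero (pow_ne_zero _ hp.ne_zero) h0) Nat.card_pos.ne',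
        Finsupp.add_apply, Nat.factorization_mul (pow_ne_zero _ hp.ne_zero) h0, Finsupp.add_apply,
        Nat.factorization_pow, Finsupp.smul_apply, hp.factorization_self, smul_eq_mul, mul_one,
        Nat.factorization_eq_zero_of_not_dvd hYF, add_zero]
    have hS : Cfsg.pPrimeCore p S = ⊥ := by
      let g : X →* (X ⧸ F) ⧸ Cfsg.pPrimeCore p (X ⧸ F) :=
        (QuotientGroup.mk' _).comp (QuotientGroup.mk' F)
      have hg : Function.Surjective g := (QuotientGroup.mk'_surjective _).comp (QuotientGroup.mk'_surjective F)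
      have hk : g.ker = Y := by
        rw [hY]; ext x
        rw [MonoidHom.mem_ker, Subgroup.mem_comap]
        exact QuotientGroup.eq_one_iff _
      let e : S ≃* (X ⧸ F) ⧸ Cfsg.pPrimeCore p (X ⧸ F) :=
        (QuotientGroup.quotientMulEquivOfEq hk.symm).trans (QuotientGroup.quotientKerEquivOfSurjective g hg)
      rw [← Cores.pPrimeCore_map_mulEquiv e.symm p, Cores.pPrimeCore_quotient_self, Subgroup.map_bot]
    have hXS : cc X ≤ cc Y * cc S := S4201.result Y
    rw [hfac, pow_add]
    have hΦle : Nat.card Φ ≤ (3 * p) ^ i := hi ▸ Nat.pow_le_pow_left (by omega) i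
    have hf' : Nat.card Φ * (3 * p) ^ m ≤ (3 * p) ^ f := by
      rw [← hfim, pow_add, mul_comm]
      exact Nat.mul_le_mul_left _ hΦle
    rcases subsingleton_or_nontrivial S with hs | hs
    · have : cc S ≤ 1 := (cc_le_card S).trans (Finite.card_le_one_iff_subsingleton.mpr hs)
      calc cc X * 3 ≤ cc Y * 1 * 3 := Nat.mul_le_mul_right _ (hXS.trans (Nat.mul_le_mul_left _ this))
        _ ≤ (3 * p) ^ f * 1 := by rw [mul_one, mul_one]; exact hYle.trans hf'
        _ ≤ _ := Nat.mul_le_mul_left _ (Nat.one_le_pow _ _ (by have := hp.pos; omega))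
    · have hlt : Nat.card S < n := by
        rw [← hn, Subgroup.card_eq_card_quotient_mul_card_subgroup Y]
        refine lt_mul_of_one_lt_right Nat.card_pos ?_
        exact lt_of_lt_of_le (Finite.one_lt_card (α := F)) (Nat.le_of_dvd Nat.card_pos (Subgroup.card_dvd_of_le hFY))
      have h2 := IH _ hlt S rfl hs hS
      calc cc X * 3 ≤ cc Y * cc S * 3 * 1 := by rw [mul_one]; exact Nat.mul_le_mul_right _ hXS
        _ ≤ cc Y * cc S * 3 * 3 := Nat.mul_le_mul_left _ (by norm_num)
        _ = (cc Y * 3) * (cc S * 3) := by ring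
        _ ≤ _ := Nat.mul_le_mul (hYle.trans hf') h2

end Cfsg.Agent.SolvBlockBound
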