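import Cfsg.Agent.S4201
import Mathlib.GroupTheory.QuotientGroup.Basic

/-! Elementary bounds for numbers of conjugacy classes. -/

set_option autoImplicit false
set_option linter.style.haveILetI false

namespace Cfsg.Agent.SolvBlockBound

universe u v w

/-- The number of conjugacy classes. -/
noncomputable abbrev cc (G : Type*) [Group G] : ℕ := Nat.card (ConjClasses G)

theorem cc_surj {G : Type*} {H : Type*} [Group G] [Group H] [Finite G] (f : G →* H)
    (hf : Function.Surjective f) : cc H ≤ cc G :=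
  Nat.card_le_card_of_surjective _ (ConjClasses.map_surjective hf)

theorem cc_congr {G : Type*} {H : Type*} [Group G] [Group H] [Finite G] (e : G ≃* H) : cc G = cc H := by
  haveI : Finite H := Finite.of_equiv _ e.toEquiv
  exact le_antisymm (cc_surj e.symm.toMonoidHom e.symm.surjective) (cc_surj e.toMonoidHom e.surjective)

theorem cc_le_card (G : Type*) [Group G] [Finite G] : cc G ≤ Nat.card G :=
  Nat.card_le_card_of_surjective _ ConjClasses.mk_surjective

theorem cc_pos (G : Type*) [Group G] [Finite G] : 0 < cc G :=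
  haveI : Nonempty (ConjClasses G) := ⟨ConjClasses.mk 1⟩
  Nat.card_pos

/-- Kernel times image. -/
theorem cc_le_ker_range {G : Type u} {H : Type v} [Group G] [Group H] [Finite G] (f : G →* H) :
    cc G ≤ cc f.ker * cc f.range :=
  (S4201.result f.ker).trans_eq (congrArg (cc f.ker * ·) (cc_congr (QuotientGroup.quotientKerEquivRange f)))

/-- An exact sequence. -/
theorem cc_le_of_exact {A : Type w} {G : Type u} {H : Type v} [Group A] [Group G] [Group H] [Finite G] [Finite H]
    (ι : A →* G) (hι : Function.Injective ι) (f : G →* H) (hf : Function.Surjective f)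
    (hex : ι.range = f.ker) : cc G ≤ cc A * cc H := by
  haveI : Finite A := Finite.of_injective ι hι
  refine (cc_le_ker_range f).trans (Nat.mul_le_mul (le_of_eq ?_) (le_of_eq ?_))
  · exact (cc_congr ((MonoidHom.ofInjective hι).trans (MulEquiv.subgroupCongr hex))).symm
  · exact cc_congr ((MulEquiv.subgroupCongr (MonoidHom.range_eq_top.mpr hf)).trans Subgroup.topEquiv)

/-- A larger kernel gives a smaller image. -/
theorem cc_map_le_of_ker {G : Type u} {H : Type v} {J : Type w} [Group G] [Group H] [Group J] [Finite G]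
    (K : Subgroup G) (f : G →* H) (g : G →* J) (h : ∀ k ∈ K, g k = 1 → f k = 1) :
    cc (K.map f) ≤ cc (K.map g) := by
  let φ : K →* K.map g := (g.subgroupMap K)
  have hφ : Function.Surjective φ := g.subgroupMap_surjective K
  let ψ : K.map g →* K.map f := φ.liftOfSurjective hφ ⟨f.subgroupMap K, fun k hk =>
    Subtype.ext (h k k.2 (congrArg Subtype.val hk))⟩
  haveI : Finite (K.map g) := Finite.of_surjective φ hφ
  refine cc_surj ψ fun y => ?_
  obtain ⟨k, rfl⟩ := f.subgroupMap_surjective K y
  exact ⟨φ k, MonoidHom.liftOfRightInverse_comp_apply _ _ _ _ k⟩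

/-- Two actions jointly detecting a third. -/
theorem cc_map_le_two {G : Type u} {H : Type v} {J₁ : Type w} {J₂ : Type w} [Group G] [Group H] [Group J₁]
    [Group J₂] [Finite G] (K : Subgroup G) (f : G →* H) (g₁ : G →* J₁) (g₂ : G →* J₂)
    (h : ∀ k ∈ K, g₁ k = 1 → g₂ k = 1 → f k = 1) :
    cc (K.map f) ≤ cc ((K ⊓ g₁.ker).map g₂) * cc (K.map g₁) := by
  refine (cc_map_le_of_ker K f (g₁.prod g₂) fun k hk hp => ?_).trans ?_
  · rw [MonoidHom.prod_apply, Prod.mk_eq_one] at hp
    exact h k hk hp.1 hp.2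
  let R := K.map (g₁.prod g₂)
  let π : R →* J₁ := (MonoidHom.fst J₁ J₂).comp R.subtype
  haveI : Finite R := Finite.of_surjective _ ((g₁.prod g₂).subgroupMap_surjective K)
  haveI : Finite π.range := Finite.of_surjective _ π.rangeRestrict_surjective
  refine (cc_le_ker_range π).trans (Nat.mul_le_mul (le_of_eq ?_) (le_of_eq ?_))
  · let s : π.ker →* J₂ := (MonoidHom.snd J₁ J₂).comp (R.subtype.comp π.ker.subtype)
    have hs : Function.Injective s := fun a b hab => by
      refine Subtype.ext (Subtype.ext (Prod.ext ?_ hab))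
      exact (a.2 : π a = 1).trans (b.2 : π b = 1).symm
    refine cc_congr ((MonoidHom.ofInjective hs).trans (MulEquiv.subgroupCongr ?_))
    ext y
    constructor
    · rintro ⟨⟨⟨_, k, hk, rfl⟩, hz⟩, rfl⟩
      exact ⟨k, ⟨hk, hz⟩, rfl⟩
    · rintro ⟨k, ⟨hk, hk1⟩, rfl⟩
      exact ⟨⟨⟨(g₁ k, g₂ k), k, hk, rfl⟩, hk1⟩, rfl⟩
  · refine cc_congr (MulEquiv.subgroupCongr ?_)
    ext y
    constructor
    · rintro ⟨⟨_, k, hk, rfl⟩, rfl⟩
      exact ⟨k, hk, rfl⟩
    · rintro ⟨k, hk, rfl⟩
      exact ⟨⟨(g₁ k, g₂ k), k, hk, rfl⟩, rfl⟩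

/-- A subgroup and the order of its index. -/
theorem cc_le_index_mul {G : Type*} [Group G] [Finite G] (N : Subgroup G) [N.Normal] :
    cc G ≤ cc N * N.index := by
  refine (S4201.result N).trans (Nat.mul_le_mul_left _ ?_)
  exact (cc_le_card (G ⧸ N)).trans_eq N.index_eq_card.symm

/-- The largest number of conjugacy classes of a subgroup. -/
noncomputable def hcc (G : Type*) [Group G] : ℕ := ⨆ S : Subgroup G, cc S

theorem le_hcc {G : Type*} [Group G] [Finite G] (S : Subgroup G) : cc S ≤ hcc G :=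
  le_ciSup (f := fun S : Subgroup G => cc S) (Finite.bddAbove_range _) S

theorem cc_le_hcc (G : Type*) [Group G] [Finite G] : cc G ≤ hcc G :=
  (cc_congr (Subgroup.topEquiv (G := G)).symm).trans_le (le_hcc ⊤)

theorem hcc_le {G : Type*} [Group G] {n : ℕ} (h : ∀ S : Subgroup G, cc S ≤ n) : hcc G ≤ n := ciSup_le h

theorem hcc_le_card (G : Type*) [Group G] [Finite G] : hcc G ≤ Nat.card G :=
  hcc_le fun S => (cc_le_card S).trans (Subgroup.card_le_card_group S)

theorem hcc_mono {G : Type u} {H : Type v} [Group G] [Group H] [Finite H] (f : G →* H)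
    (hf : Function.Injective f) : hcc G ≤ hcc H := by
  haveI : Finite G := Finite.of_injective f hf
  exact hcc_le fun S => (cc_congr (S.equivMapOfInjective f hf)).trans_le (le_hcc _)

theorem hcc_congr {G : Type u} {H : Type v} [Group G] [Group H] [Finite G] (e : G ≃* H) : hcc G = hcc H := by
  haveI : Finite H := Finite.of_equiv _ e.toEquiv
  exact le_antisymm (hcc_mono e.toMonoidHom e.injective) (hcc_mono e.symm.toMonoidHom e.symm.injective)

theorem hcc_surj {G : Type u} {H : Type v} [Group G] [Group H] [Finite G] (f : G →* H)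
    (hf : Function.Surjective f) : hcc H ≤ hcc G :=
  hcc_le fun S => (cc_surj (f.subgroupComap S) (f.subgroupComap_surjective_of_surjective S hf)).trans (le_hcc _)

/-- Kernel times image, for all subgroups. -/
theorem hcc_le_ker_range {G : Type u} {H : Type v} [Group G] [Group H] [Finite G] (f : G →* H) :
    hcc G ≤ hcc f.ker * hcc f.range := by
  haveI : Finite f.range := Finite.of_surjective _ f.rangeRestrict_surjective
  refine hcc_le fun S => (cc_le_ker_range (f.comp S.subtype)).trans (Nat.mul_le_mul ?_ ?_)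
  · refine (cc_le_hcc _).trans (hcc_mono ((S.subtype.comp (f.comp S.subtype).ker.subtype).codRestrict f.ker
      fun x => x.2) fun x y h => ?_)
    exact Subtype.ext (Subtype.ext (congrArg (fun z : f.ker => (z : G)) h))
  · have hle : (f.comp S.subtype).range ≤ f.range := by rintro _ ⟨x, rfl⟩; exact ⟨(x : G), rfl⟩
    haveI : Finite (f.comp S.subtype).range := Finite.of_injective _ (Subgroup.inclusion_injective hle)
    exact (cc_le_hcc _).trans (hcc_mono (Subgroup.inclusion hle) (Subgroup.inclusion_injective hle))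

/-- A normal subgroup times its quotient, for all subgroups. -/
theorem hcc_le_quot {G : Type u} [Group G] [Finite G] (N : Subgroup G) [N.Normal] :
    hcc G ≤ hcc N * hcc (G ⧸ N) := by
  refine (hcc_le_ker_range (QuotientGroup.mk' N)).trans (Nat.mul_le_mul (le_of_eq ?_) ?_)
  · exact hcc_congr (MulEquiv.subgroupCongr (QuotientGroup.ker_mk' N))
  · exact hcc_mono (Subgroup.subtype _) Subtype.val_injective

/-- A larger kernel gives a smaller image. -/
theorem hcc_map_le_of_ker {G : Type u} {H : Type v} {J : Type w} [Group G] [Group H] [Group J] [Finite G]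
    (K : Subgroup G) (f : G →* H) (g : G →* J) (h : ∀ k ∈ K, g k = 1 → f k = 1) :
    hcc (K.map f) ≤ hcc (K.map g) := by
  haveI : Finite (K.map g) := Finite.of_surjective _ (g.subgroupMap_surjective K)
  refine hcc_surj ((g.subgroupMap K).liftOfSurjective (g.subgroupMap_surjective K) ⟨f.subgroupMap K, fun k hk =>
    Subtype.ext (h k k.2 (congrArg Subtype.val hk))⟩) fun y => ?_
  obtain ⟨k, rfl⟩ := f.subgroupMap_surjective K y
  exact ⟨g.subgroupMap K k, MonoidHom.liftOfRightInverse_comp_apply _ _ _ _ k⟩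

/-- Two actions jointly detecting a third. -/
theorem hcc_map_le_two {G : Type u} {H : Type v} {J₁ : Type w} {J₂ : Type w} [Group G] [Group H] [Group J₁]
    [Group J₂] [Finite G] (K : Subgroup G) (f : G →* H) (g₁ : G →* J₁) (g₂ : G →* J₂)
    (h : ∀ k ∈ K, g₁ k = 1 → g₂ k = 1 → f k = 1) :
    hcc (K.map f) ≤ hcc ((K ⊓ g₁.ker).map g₂) * hcc (K.map g₁) := by
  refine (hcc_map_le_of_ker K f (g₁.prod g₂) fun k hk hp => ?_).trans ?_
  · rw [MonoidHom.prod_apply, Prod.mk_eq_one] at hp
    exact h k hk hp.1 hp.2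
  let R := K.map (g₁.prod g₂)
  let π : R →* J₁ := (MonoidHom.fst J₁ J₂).comp R.subtype
  haveI : Finite R := Finite.of_surjective _ ((g₁.prod g₂).subgroupMap_surjective K)
  haveI : Finite π.range := Finite.of_surjective _ π.rangeRestrict_surjective
  refine (hcc_le_ker_range π).trans (Nat.mul_le_mul (le_of_eq ?_) (le_of_eq ?_))
  · let s : π.ker →* J₂ := (MonoidHom.snd J₁ J₂).comp (R.subtype.comp π.ker.subtype)
    have hs : Function.Injective s := fun a b hab => by
      refine Subtype.ext (Subtype.ext (Prod.ext ?_ hab))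
      exact (a.2 : π a = 1).trans (b.2 : π b = 1).symm
    refine hcc_congr ((MonoidHom.ofInjective hs).trans (MulEquiv.subgroupCongr ?_))
    ext y
    constructor
    · rintro ⟨⟨⟨_, k, hk, rfl⟩, hz⟩, rfl⟩
      exact ⟨k, ⟨hk, hz⟩, rfl⟩
    · rintro ⟨k, ⟨hk, hk1⟩, rfl⟩
      exact ⟨⟨⟨(g₁ k, g₂ k), k, hk, rfl⟩, hk1⟩, rfl⟩
  · refine hcc_congr (MulEquiv.subgroupCongr ?_)
    ext y
    constructor
    · rintro ⟨⟨_, k, hk, rfl⟩, rfl⟩
      exact ⟨k, hk, rfl⟩
    · rintro ⟨k, hk, rfl⟩
      exact ⟨⟨(g₁ k, g₂ k), k, hk, rfl⟩, rfl⟩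

theorem hcc_mul_le {G : Type u} [Group G] [Finite G] {k n : ℕ} (h : ∀ S : Subgroup G, cc S * k ≤ n) :
    hcc G * k ≤ n := by
  obtain ⟨S, hS⟩ := exists_eq_ciSup_of_finite (f := fun S : Subgroup G => cc S)
  rw [hcc, ← hS]
  exact h S

/-- A normal subgroup of small index. -/
theorem hcc_le_index_mul {G : Type u} [Group G] [Finite G] (N : Subgroup G) [N.Normal] :
    hcc G ≤ hcc N * N.index :=
  (hcc_le_quot N).trans (Nat.mul_le_mul_left _ ((hcc_le_card (G ⧸ N)).trans_eq N.index_eq_card.symm))

end Cfsg.Agent.SolvBlockBound
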