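import Cfsg.Agent.Lib.SolvBlockBound.Recursion
import Cfsg.Agent.Lib.Cores.Fitting
import Cfsg.Agent.Lib.LinearPGroup.Basic
import Mathlib.Analysis.Complex.Polynomial.Basic
import Mathlib.RingTheory.IntegralDomain

/-! Solvable groups of complex linear maps, modulo the Fitting subgroup. -/

set_option autoImplicit false
set_option linter.style.haveILetI false

namespace Cfsg.Agent.SolvBlockBound

open Module

/-- The largest class number of a subgroup of `G / F(G)`. -/
noncomputable abbrev fq (G : Type) [Group G] : ℕ := hcc (G ⧸ Cfsg.fittingSubgroup G)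

theorem hcc_range_map_top {G : Type} {J : Type} [Group G] [Group J] [Finite G] (f : G →* J) :
    hcc ((⊤ : Subgroup G).map f) = hcc f.range := by
  haveI : Finite ((⊤ : Subgroup G).map f) := Finite.of_surjective _ (f.subgroupMap_surjective ⊤)
  exact hcc_congr (MulEquiv.subgroupCongr (MonoidHom.range_eq_map f).symm)

theorem hcc_quot_le {G : Type} [Group G] [Finite G] (N : Subgroup G) [N.Normal] {J : Type} [Group J]
    (f : G →* J) (h : ∀ g, f g = 1 → g ∈ N) : hcc (G ⧸ N) ≤ hcc ((⊤ : Subgroup G).map f) := by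
  refine le_trans (le_of_eq ?_) (hcc_map_le_of_ker ⊤ (QuotientGroup.mk' N) f
    fun g _ hg => (QuotientGroup.eq_one_iff g).mpr (h g hg))
  rw [hcc_range_map_top]
  exact hcc_congr (Subgroup.topEquiv.symm.trans
    (MulEquiv.subgroupCongr (MonoidHom.range_eq_top.mpr (QuotientGroup.mk'_surjective N)).symm))

/-- Finitely many images jointly detecting a quotient. -/
theorem hcc_pi_le {G : Type} [Group G] [Finite G] {ι : Type} [Fintype ι] {J : ι → Type} [∀ i, Group (J i)]
    (f : ∀ i, G →* J i) (N : Subgroup G) [N.Normal] (h : ∀ g, (∀ i, f i g = 1) → g ∈ N) :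
    hcc (G ⧸ N) ≤ ∏ i, hcc (f i).range := by
  classical
  let π : ∀ s : Finset ι, G →* ((i : s) → J i) := fun s => Pi.monoidHom fun i => f i
  have key : ∀ s : Finset ι, hcc ((⊤ : Subgroup G).map (π s)) ≤ ∏ i ∈ s, hcc (f i).range := by
    intro s
    induction s using Finset.induction_on with
    | empty =>
      haveI : Finite ((⊤ : Subgroup G).map (π ∅)) := Finite.of_surjective _ ((π ∅).subgroupMap_surjective ⊤)
      rw [Finset.prod_empty]
      exact (hcc_le_card _).trans (Finite.card_le_one_iff_subsingleton.mpr inferInstance)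
    | insert a s ha ih =>
      rw [Finset.prod_insert ha, mul_comm]
      refine (hcc_map_le_two ⊤ (π (insert a s)) (f a) (π s) ?_).trans (Nat.mul_le_mul ?_ (hcc_range_map_top _).le)
      · intro g _ h1 h2
        funext i
        rcases Finset.mem_insert.mp i.2 with hi | hi
        · obtain ⟨i, hi'⟩ := i
          obtain rfl : i = a := hi
          exact h1
        · exact congrFun h2 ⟨i, hi⟩
      · haveI : Finite ((⊤ : Subgroup G).map (π s)) := Finite.of_surjective _ ((π s).subgroupMap_surjective ⊤)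
        refine le_trans ?_ ih
        exact hcc_mono (Subgroup.inclusion (Subgroup.map_mono inf_le_left)) (Subgroup.inclusion_injective _)
  exact (hcc_quot_le N (π Finset.univ) fun g hg => h g fun i => congrFun hg ⟨i, Finset.mem_univ i⟩).trans (key _)

variable {G : Type} [Group G] {V : Type} [AddCommGroup V] [Module ℂ V]

/-- The action on an invariant subspace. -/
noncomputable def cRestr (ρ : G →* Module.End ℂ V) (W : Submodule ℂ V) (h : ∀ g, ∀ w ∈ W, ρ g w ∈ W) :
    G →* (Module.End ℂ W)ˣ :=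
  MonoidHom.toHomUnits
    { toFun := fun g => (ρ g).restrict (h g)
      map_one' := LinearMap.ext fun w => Subtype.ext (by simp)
      map_mul' := fun a b => LinearMap.ext fun w => Subtype.ext (by simp) }

/-- The Fitting quotient of a group with a decomposition. -/
theorem fq_le_prod [Finite G] {ι : Type} [Fintype ι] (ρ : G →* Module.End ℂ V) (hρ : Function.Injective ρ)
    (P : ι → Submodule ℂ V) (hP : ∀ i g, ∀ w ∈ P i, ρ g w ∈ P i) (hsup : ⨆ i, P i = ⊤) :
    fq G ≤ ∏ i, fq (cRestr ρ (P i) (hP i)).range := by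
  let R := fun i => (cRestr ρ (P i) (hP i)).range
  let q : ∀ i, G →* R i ⧸ Cfsg.fittingSubgroup (R i) := fun i =>
    (QuotientGroup.mk' _).comp (cRestr ρ (P i) (hP i)).rangeRestrict
  refine (hcc_pi_le q (Cfsg.fittingSubgroup G) ?_).trans (Finset.prod_le_prod' fun i _ => ?_)
  swap
  · haveI : Finite (R i) := Finite.of_surjective _ (cRestr ρ (P i) (hP i)).rangeRestrict_surjective
    exact hcc_mono (Subgroup.subtype _) Subtype.val_injective
  intro g hg
  set S : Subgroup G := ⨅ i, (q i).ker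
  have hSn : S.Normal := Subgroup.normal_iInf_normal fun i => inferInstance
  have hmem : ∀ (x : S) (i : ι), (cRestr ρ (P i) (hP i)).rangeRestrict x ∈ Cfsg.fittingSubgroup (R i) := fun x i =>
    (QuotientGroup.eq_one_iff _).mp ((Subgroup.mem_iInf.mp x.2) i)
  let φ : S →* (∀ i, Cfsg.fittingSubgroup (R i)) :=
    Pi.monoidHom fun i => ((cRestr ρ (P i) (hP i)).rangeRestrict.comp S.subtype).codRestrict _ fun x => hmem x i
  have hφ : Function.Injective φ := by
    rw [injective_iff_map_eq_one]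
    intro x hx
    refine Subtype.ext (hρ ?_)
    rw [OneMemClass.coe_one, map_one]
    have hle : (⊤ : Submodule ℂ V) ≤ LinearMap.eqLocus (ρ x) 1 := by
      rw [← hsup]
      refine iSup_le fun i w hw => ?_
      have h1 : cRestr ρ (P i) (hP i) x = 1 := congrArg Subtype.val (congrArg Subtype.val (congrFun hx i))
      exact congrArg Subtype.val (LinearMap.congr_fun (congrArg Units.val h1) ⟨w, hw⟩)
    exact LinearMap.ext fun v => hle (Submodule.mem_top : v ∈ ⊤)
  haveI : ∀ i, Finite (R i) := fun i => Finite.of_surjective _ (cRestr ρ (P i) (hP i)).rangeRestrict_surjective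
  haveI : ∀ i, Group.IsNilpotent (Cfsg.fittingSubgroup (R i)) := fun i => Cores.fittingSubgroup_isNilpotent
  haveI : Group.IsNilpotent φ.range := inferInstance
  exact Cores.le_fittingSubgroup hSn (Group.nilpotent_of_mulEquiv (MonoidHom.ofInjective hφ).symm)
    (Subgroup.mem_iInf.mpr hg)

/-- The bound in dimension `r`. -/
def CBound (r : ℕ) : Prop :=
  ∀ (G V : Type) [Group G] [Finite G] [Group.IsSolvable G] [AddCommGroup V] [Module ℂ V] [FiniteDimensional ℂ V]
    (ρ : G →* Module.End ℂ V), Function.Injective ρ → finrank ℂ V = r → fq G * 3 ≤ 3 ^ r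

/-- A decomposition into at least two parts. -/
theorem fq_split [Finite G] [Group.IsSolvable G] [FiniteDimensional ℂ V] {r : ℕ}
    (IH : ∀ r' < r, 0 < r' → CBound r') (hr : finrank ℂ V = r) {ι : Type} [Fintype ι] (h2 : 2 ≤ Fintype.card ι)
    (ρ : G →* Module.End ℂ V) (hρ : Function.Injective ρ)
    (P : ι → Submodule ℂ V) (hP : ∀ i g, ∀ w ∈ P i, ρ g w ∈ P i) (hne : ∀ i, P i ≠ ⊥) (hind : iSupIndep P)
    (hsup : ⨆ i, P i = ⊤) : fq G * 3 ^ Fintype.card ι ≤ 3 ^ r := by
  classical
  have hsum : ∑ i, finrank ℂ (P i) = r := by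
    have h : DirectSum.IsInternal P := (DirectSum.isInternal_submodule_iff_iSupIndep_and_iSup_eq_top P).mpr ⟨hind, hsup⟩
    rw [← hr, ← Module.finrank_directSum]
    exact (LinearEquiv.ofBijective (DirectSum.coeLinearMap P) h).finrank_eq
  have hpos : ∀ i, 0 < finrank ℂ (P i) := fun i => Submodule.one_le_finrank_iff.mpr (hne i)
  have hlt : ∀ i, finrank ℂ (P i) < r := fun i => by
    obtain ⟨j, hj⟩ := Fintype.exists_ne_of_one_lt_card h2 i
    rw [← hsum]
    exact Finset.single_lt_sum hj (Finset.mem_univ i) (Finset.mem_univ j) (hpos j) fun k _ _ => (hpos k).le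
  refine (Nat.mul_le_mul_right _ (fq_le_prod ρ hρ P hP hsup)).trans ?_
  rw [← Finset.card_univ, ← Finset.prod_const, ← Finset.prod_mul_distrib, ← hsum, ← Finset.prod_pow_eq_pow_sum]
  refine Finset.prod_le_prod' fun i _ => ?_
  haveI : Finite (cRestr ρ (P i) (hP i)).range :=
    Finite.of_surjective _ (cRestr ρ (P i) (hP i)).rangeRestrict_surjective
  haveI : Group.IsSolvable (cRestr ρ (P i) (hP i)).range :=
    Group.isSolvable_of_surjective (f := (cRestr ρ (P i) (hP i)).rangeRestrict)
      (cRestr ρ (P i) (hP i)).rangeRestrict_surjective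
  exact IH _ (hlt i) (hpos i) _ _ ((Units.coeHom _).comp (cRestr ρ (P i) (hP i)).range.subtype)
    (Units.val_injective.comp Subtype.val_injective) rfl

/-- An invariant complement. -/
theorem exists_compl [Finite G] (ρ : G →* Module.End ℂ V) (W : Submodule ℂ V) (hW : ∀ g, ∀ w ∈ W, ρ g w ∈ W) :
    ∃ U : Submodule ℂ V, (∀ g, ∀ u ∈ U, ρ g u ∈ U) ∧ IsCompl W U := by
  classical
  haveI := Fintype.ofFinite G
  obtain ⟨π, hπ⟩ := LinearMap.exists_leftInverse_of_injective W.subtype W.ker_subtype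
  set p : Module.End ℂ V := W.subtype.comp π
  have hp : ∀ w ∈ W, p w = w := fun w hw => congrArg Subtype.val (LinearMap.congr_fun hπ ⟨w, hw⟩)
  set Q : Module.End ℂ V := ∑ g : G, ρ g * p * ρ g⁻¹ with hQdef
  have hn : ((Fintype.card G : ℕ) : ℂ) ≠ 0 := Nat.cast_ne_zero.mpr Fintype.card_ne_zero
  have hQW : ∀ v, Q v ∈ W := fun v => by
    rw [hQdef, LinearMap.sum_apply]
    exact Submodule.sum_mem _ fun g _ => hW g _ (π (ρ g⁻¹ v)).2
  have hQ : ∀ w ∈ W, Q w = (Fintype.card G : ℂ) • w := fun w hw => by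
    rw [hQdef, LinearMap.sum_apply, Finset.sum_congr rfl fun g _ => show (ρ g * p * ρ g⁻¹) w = w from ?_]
    · rw [Finset.sum_const, Finset.card_univ, Nat.cast_smul_eq_nsmul]
    · rw [Module.End.mul_apply, Module.End.mul_apply, hp _ (hW _ w hw), ← Module.End.mul_apply, ← map_mul,
        mul_inv_cancel, map_one, Module.End.one_apply]
  have hcomm : ∀ h : G, Q * ρ h = ρ h * Q := by
    intro h
    rw [hQdef, Finset.mul_sum, Finset.sum_mul]
    refine (Fintype.sum_equiv (Equiv.mulLeft h) _ _ fun g => ?_).symm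
    simp only [Equiv.coe_mulLeft, mul_inv_rev, map_mul, mul_assoc]
    rw [← map_mul ρ h⁻¹ h, inv_mul_cancel, map_one, mul_one]
  refine ⟨LinearMap.ker Q, fun g u hu => ?_, ?_, ?_⟩
  · rw [LinearMap.mem_ker] at hu ⊢
    rw [← Module.End.mul_apply, hcomm, Module.End.mul_apply, hu, map_zero]
  · rw [Submodule.disjoint_def]
    intro w hw hk
    rw [LinearMap.mem_ker, hQ w hw, smul_eq_zero] at hk
    exact hk.resolve_left hn
  · refine codisjoint_iff.mpr (eq_top_iff.mpr fun v _ => Submodule.mem_sup.mpr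
      ⟨(Fintype.card G : ℂ)⁻¹ • Q v, W.smul_mem _ (hQW v), v - (Fintype.card G : ℂ)⁻¹ • Q v, ?_, by abel⟩)
    rw [LinearMap.mem_ker, map_sub, map_smul, hQ _ (hQW v), smul_smul, inv_mul_cancel₀ hn, one_smul, sub_self]

theorem reducible [Finite G] [Group.IsSolvable G] [FiniteDimensional ℂ V] {r : ℕ}
    (IH : ∀ r' < r, 0 < r' → CBound r') (hr : finrank ℂ V = r) (ρ : G →* Module.End ℂ V)
    (hρ : Function.Injective ρ) (W : Submodule ℂ V) (hW : ∀ g, ∀ w ∈ W, ρ g w ∈ W) (hb : W ≠ ⊥) (ht : W ≠ ⊤) :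
    fq G * 3 ≤ 3 ^ r := by
  obtain ⟨U, hU, hWU⟩ := exists_compl ρ W hW
  have hUb : U ≠ ⊥ := fun h => ht (by simpa [h] using hWU.sup_eq_top)
  have h := fq_split IH hr (ι := Bool) (by simp) ρ hρ (fun b => if b then W else U)
    (fun b => by cases b <;> simpa) (fun b => by cases b <;> simpa)
    ((iSupIndep_pair (i := true) (j := false) (by simp) (fun k => by cases k <;> simp)).mpr (by simpa using hWU.disjoint))
    (by rw [iSup_bool_eq]; simpa using hWU.sup_eq_top)
  exact le_trans (Nat.mul_le_mul_left _ (by simp)) h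

/-- The weight spaces of an abelian normal subgroup. -/
theorem blocks [Finite G] [Group.IsSolvable G] [FiniteDimensional ℂ V] {r : ℕ}
    (IH : ∀ r' < r, 0 < r' → CBound r') (hr : finrank ℂ V = r) (ρ : G →* Module.End ℂ V)
    (hρ : Function.Injective ρ) (A : Subgroup G) [A.Normal] (hA : ∀ a ∈ A, ∀ b ∈ A, a * b = b * a)
    (hns : ¬ ∀ a ∈ A, ∃ c : ℂ, ρ a = c • 1) : fq G * 3 ≤ 3 ^ r := by
  classical
  let f : A → Module.End ℂ V := fun a => ρ a
  let W : (A → ℂ) → Submodule ℂ V := fun χ => ⨅ a, (f a).maxGenEigenspace (χ a)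
  have hcomm : ∀ a b : A, Commute (f a) (f b) := fun a b => by
    show ρ a * ρ b = ρ b * ρ a
    rw [← map_mul, hA a a.2 b b.2, map_mul]
  have hn : ((Nat.card G : ℕ) : ℂ) ≠ 0 := Nat.cast_ne_zero.mpr Nat.card_pos.ne'
  have memW : ∀ (χ : A → ℂ) (v : V), v ∈ W χ ↔ ∀ a : A, ρ a v = χ a • v := fun χ v =>
    ⟨fun hv a => LinearPGroup.eigen_of_mem_maxGen hn
      (by show ρ a ^ _ = 1; rw [← map_pow, pow_card_eq_one', map_one]) ((Submodule.mem_iInf _).1 hv a),
    fun h => (Submodule.mem_iInf _).2 fun a =>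
      Module.End.genEigenspace_le_maximal (f a) (χ a) 1 (Module.End.mem_eigenspace_iff.2 (h a))⟩
  have hind : iSupIndep W := Module.End.independent_iInf_maxGenEigenspace_of_forall_mapsTo f
    fun a b φ => Module.End.mapsTo_maxGenEigenspace_of_comm (hcomm b a) φ
  have htop : ⨆ χ, W χ = ⊤ :=
    Module.End.iSup_iInf_maxGenEigenspace_eq_top_of_iSup_maxGenEigenspace_eq_top_of_commute f
      (fun a b _ => hcomm a b) fun a => Module.End.iSup_maxGenEigenspace_eq_top (f a)
  let X := {χ : A → ℂ // W χ ≠ ⊥}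
  haveI : Finite X := (Submodule.finite_ne_bot_of_iSupIndep hind).to_subtype
  haveI : Fintype X := Fintype.ofFinite X
  have htopX : ⨆ x : X, W x = ⊤ := by rw [← htop]; exact iSup_ne_bot_subtype W
  have h2 : 2 ≤ Fintype.card X := by
    by_contra hlt
    haveI : Subsingleton X := Fintype.card_le_one_iff_subsingleton.mp (by omega)
    refine hns fun a ha => ?_
    rcases isEmpty_or_nonempty X with hX | ⟨⟨x⟩⟩
    · refine ⟨1, LinearMap.ext fun v => ?_⟩
      have : v ∈ (⊥ : Submodule ℂ V) := by rw [← iSup_of_empty fun x : X => W x, htopX]; trivial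
      rw [(Submodule.mem_bot ℂ).mp this, map_zero, map_zero]
    · refine ⟨x.1 ⟨a, ha⟩, LinearMap.ext fun v => ?_⟩
      have hWx : (⨆ y : X, W y) ≤ W x := iSup_le fun y => le_of_eq (by rw [Subsingleton.elim y x])
      have hv : v ∈ W x := hWx (htopX.symm ▸ Submodule.mem_top)
      exact (memW _ _).mp hv ⟨a, ha⟩
  let σ : G → (A → ℂ) → (A → ℂ) := fun g χ a => χ ⟨g⁻¹ * a * g, by simpa using ‹A.Normal›.conj_mem a a.2 g⁻¹⟩
  have hmove : ∀ g χ v, v ∈ W χ → ρ g v ∈ W (σ g χ) := by
    intro g χ v hv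
    refine (memW _ _).mpr fun a => ?_
    have h := (memW _ _).mp hv ⟨g⁻¹ * a * g, by simpa using ‹A.Normal›.conj_mem a a.2 g⁻¹⟩
    calc ρ a (ρ g v) = ρ g (ρ (g⁻¹ * a * g) v) := by
          rw [← Module.End.mul_apply, ← map_mul, ← Module.End.mul_apply, ← map_mul]
          congr 2; group
      _ = _ := by rw [h, map_smul]
  have hσX : ∀ (g : G) (x : X), W (σ g x) ≠ ⊥ := by
    intro g x h
    obtain ⟨v, hv, hv0⟩ := Submodule.exists_mem_ne_zero_of_ne_bot x.2
    have := hmove g x v hv
    rw [h, Submodule.mem_bot] at this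
    refine hv0 ?_
    have h1 := congrArg (ρ g⁻¹) this
    rwa [← Module.End.mul_apply, ← map_mul, inv_mul_cancel, map_one, Module.End.one_apply, map_zero] at h1
  letI : MulAction G X :=
    { smul := fun g x => ⟨σ g x, hσX g x⟩
      one_smul := fun x => Subtype.ext (funext fun a => congrArg x.1 (Subtype.ext (by group)))
      mul_smul := fun g h x => Subtype.ext (funext fun a => congrArg x.1 (Subtype.ext (by group))) }
  set φ := MulAction.toPermHom G X
  set B := φ.ker
  have h1 : fq B * 3 ^ Fintype.card X ≤ 3 ^ r := fq_split IH hr h2 (ρ.comp B.subtype)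
    (hρ.comp Subtype.val_injective) (fun x : X => W x) (fun x g w hw => by
      have h := hmove (g : G) x w hw
      have e : ((g : G) • x : X) = x := Equiv.ext_iff.mp (g.2 : φ g = 1) x
      rwa [show σ (g : G) x = x from congrArg Subtype.val e] at h)
    (fun x => x.2) (hind.comp Subtype.val_injective) htopX
  haveI : Nonempty X := (Fintype.card_pos_iff.mp (by omega))
  have h3 := (permBound (Nat.card X)).image G X le_rfl
  rw [Nat.card_eq_fintype_card] at h3
  -- the quotient by the kernel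
  set π := QuotientGroup.mk' (Cfsg.fittingSubgroup G)
  haveI : (B.map π).Normal := Subgroup.Normal.map inferInstance π (QuotientGroup.mk'_surjective _)
  have hle : fq G ≤ fq B * hcc φ.range := by
    refine (hcc_le_quot (B.map π)).trans (Nat.mul_le_mul ?_ ?_)
    · haveI : (Cfsg.fittingSubgroup B).Characteristic := Cores.fittingSubgroup_characteristic _
      have hF : (Cfsg.fittingSubgroup B).map B.subtype ≤ Cfsg.fittingSubgroup G :=
        Cores.le_fittingSubgroup inferInstance (Cores.isNilpotent_map _ Cores.fittingSubgroup_isNilpotent)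
      refine hcc_surj (QuotientGroup.lift (Cfsg.fittingSubgroup B) (π.subgroupMap B) fun x hx => ?_) ?_
      · exact Subtype.ext ((QuotientGroup.eq_one_iff _).mpr (hF ⟨x, hx, rfl⟩))
      · intro y
        obtain ⟨x, rfl⟩ := π.subgroupMap_surjective B y
        exact ⟨(x : B ⧸ Cfsg.fittingSubgroup B), rfl⟩
    · haveI : Finite φ.range := Finite.of_surjective _ φ.rangeRestrict_surjective
      let ψ : G →* (G ⧸ Cfsg.fittingSubgroup G) ⧸ B.map π := (QuotientGroup.mk' _).comp π
      refine hcc_surj (φ.rangeRestrict.liftOfSurjective φ.rangeRestrict_surjective ⟨ψ, fun g hg => ?_⟩) fun y => ?_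
      · exact (QuotientGroup.eq_one_iff _).mpr ⟨g, congrArg Subtype.val hg, rfl⟩
      · obtain ⟨z, rfl⟩ := QuotientGroup.mk_surjective y
        obtain ⟨g, rfl⟩ := QuotientGroup.mk_surjective z
        exact ⟨φ.rangeRestrict g, MonoidHom.liftOfRightInverse_comp_apply _ _ _ _ g⟩
  refine Nat.le_of_mul_le_mul_right ?_ (pow_pos (show 0 < 3 by norm_num) (Fintype.card X))
  calc fq G * 3 * 3 ^ Fintype.card X ≤ fq B * hcc φ.range * 3 * 3 ^ Fintype.card X := by gcongr
    _ = (fq B * 3 ^ Fintype.card X) * (hcc φ.range * 3) := by ring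
    _ ≤ 3 ^ r * 3 ^ Fintype.card X := Nat.mul_le_mul h1 h3

/-- All abelian normal subgroups scalar. -/
theorem primitive' [Finite G] [Group.IsSolvable G] [FiniteDimensional ℂ V] [Nontrivial V] {r : ℕ}
    (hr : finrank ℂ V = r) (ρ : G →* Module.End ℂ V) (hρ : Function.Injective ρ)
    (hsc : ∀ A : Subgroup G, A.Normal → (∀ a ∈ A, ∀ b ∈ A, a * b = b * a) → ∀ a ∈ A, ∃ c : ℂ, ρ a = c • 1) :
    fq G * 3 ≤ 3 ^ r := by
  classical
  obtain ⟨A, -, hAmax⟩ := Finite.exists_le_maximal (α := Subgroup G)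
    (p := fun A => A.Normal ∧ ∀ x ∈ A, ∀ y ∈ A, x * y = y * x) (a := ⊥)
    ⟨inferInstance, fun x hx y hy => by rw [Subgroup.mem_bot.mp hx, Subgroup.mem_bot.mp hy]⟩
  obtain ⟨hAn, hA⟩ := hAmax.prop
  haveI := hAn
  have hsA := hsc A hAn hA
  choose lam hlam using hsA
  have hcen : ∀ a ∈ A, ∀ g : G, g * a = a * g := fun a ha g => hρ (by
    rw [map_mul, map_mul, hlam a ha, mul_smul_comm, smul_mul_assoc, one_mul, mul_one])
  obtain ⟨v0, hv0⟩ := exists_ne (0 : V)
  have hinj : ∀ c d : ℂ, c • (1 : Module.End ℂ V) = d • 1 → c = d := fun c d h => by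
    have := LinearMap.congr_fun h v0
    simp only [LinearMap.smul_apply, Module.End.one_apply] at this
    exact smul_left_injective ℂ hv0 this
  let μ : A →* ℂ :=
    { toFun := fun a => lam a a.2
      map_one' := hinj _ _ (by rw [← hlam, one_smul]; exact map_one ρ)
      map_mul' := fun a b => hinj _ _ (by
        rw [← hlam, Subgroup.coe_mul, map_mul, hlam a a.2, hlam b b.2, smul_mul_smul_comm, one_mul]) }
  have hμ : Function.Injective μ := fun a b h => Subtype.ext (hρ (by
    rw [hlam a a.2, hlam b b.2]; exact congrArg (· • (1 : Module.End ℂ V)) h))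
  haveI : IsCyclic A := isCyclic_of_injective_ringHom μ hμ
  have hmax : ∀ B : Subgroup G, B.Normal → (∀ a ∈ B, ∀ b ∈ B, a * b = b * a) → A ≤ B → B = A :=
    fun B hB hBc hAB => le_antisymm (hAmax.2 ⟨hB, hBc⟩ hAB) hAB
  obtain ⟨M, hMn, hPair, hMC, hnd, -, hK, -⟩ := Huppert.exists_class_two A hA hmax
  haveI := hMn
  have hCtop : (⊤ : Subgroup G) ≤ Subgroup.centralizer (A : Set G) := fun g _ =>
    Subgroup.mem_centralizer_iff.mpr fun a ha => (hcen a ha g).symm
  have hndQ : ∀ Q : Subgroup G, Q.Normal → A ≤ Q → Q ≤ M → Q ⊓ Subgroup.centralizer (Q : Set G) = A := by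
    intro Q hQ hAQ hQM
    haveI := hQ
    exact hmax _ inferInstance (fun x hx y hy => Subgroup.mem_centralizer_iff.mp hy.2 x hx.1)
      (le_inf hAQ fun x hx => Subgroup.mem_centralizer_iff.mpr fun y hy => (hPair.central x hx y (hQM hy)).symm)
  obtain ⟨e, he⟩ := Huppert.exists_sq hPair
  rw [hndQ M inferInstance hPair.le le_rfl] at he
  have her : e ≤ r := by
    refine Nat.mul_self_le_mul_self_iff.mp (he ▸ ?_)
    haveI : Fintype (M ⧸ A.subgroupOf M) := Fintype.ofFinite _
    have hne : ∀ i : M ⧸ A.subgroupOf M, ρ (i.out : G) ≠ 0 := fun i hz => hv0 (by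
      have := LinearMap.congr_fun hz (ρ (i.out : G)⁻¹ v0)
      rwa [← Module.End.mul_apply, ← map_mul, mul_inv_cancel, map_one, Module.End.one_apply] at this)
    have hle := Nearfield.card_le_finrank_sq (K := ℂ) (fun i : M ⧸ A.subgroupOf M => ρ (i.out : G)) hne
      (fun i j hij => by
        obtain ⟨v, hv⟩ : ∃ v : M, lam _ (hPair.comm v v.2 i.out i.out.2) ≠ lam _ (hPair.comm v v.2 j.out j.out.2) := by
          by_contra hc
          push Not at hc
          refine hij ?_
          rw [← QuotientGroup.out_eq' i, ← QuotientGroup.out_eq' j, QuotientGroup.eq, Subgroup.mem_subgroupOf]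
          refine hnd _ ((i.out⁻¹ * j.out : M)).2 fun v hv => ?_
          have h1 : v * (i.out : G) * v⁻¹ * (i.out : G)⁻¹ = v * (j.out : G) * v⁻¹ * (j.out : G)⁻¹ := hρ (by
            rw [hlam _ (hPair.comm v hv i.out i.out.2), hlam _ (hPair.comm v hv j.out j.out.2), hc ⟨v, hv⟩])
          have h2 : (v * (i.out : G) * v⁻¹)⁻¹ * (v * (j.out : G) * v⁻¹) = (i.out : G)⁻¹ * (j.out : G) := by
            calc (v * (i.out : G) * v⁻¹)⁻¹ * (v * (j.out : G) * v⁻¹)
                = (i.out : G)⁻¹ * (v * (i.out : G) * v⁻¹ * (i.out : G)⁻¹)⁻¹ *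
                    (v * (j.out : G) * v⁻¹ * (j.out : G)⁻¹) * (j.out : G) := by group
              _ = _ := by rw [h1]; group
          show ((i.out⁻¹ * j.out : M) : G) * v = v * ((i.out⁻¹ * j.out : M) : G)
          push_cast
          conv_lhs => rw [← h2]
          group
        refine ⟨ρ v, ρ (v : G)⁻¹, fun k => lam _ (hPair.comm v v.2 k.out k.out.2), fun k w => ?_, hv⟩
        have h := LinearMap.congr_fun (hlam _ (hPair.comm v v.2 k.out k.out.2)) (ρ (k.out : G) w)
        rw [LinearMap.smul_apply, Module.End.one_apply] at h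
        rw [← h, ← Module.End.mul_apply, ← Module.End.mul_apply, ← Module.End.mul_apply, ← map_mul, ← map_mul,
          ← map_mul, inv_mul_cancel_right])
    rw [← Nat.card_eq_fintype_card, hr] at hle
    exact hle
  have h3 := secBound e G A M ⟨hPair, hMC, hndQ⟩ M hPair.le le_rfl e he le_rfl ⊤ inferInstance hCtop
  have hMF : M ≤ Cfsg.fittingSubgroup G := by
    refine Cores.le_fittingSubgroup hMn (Group.of_quotient_center_nilpotent ?_)
    letI : CommGroup (M ⧸ Subgroup.center M) :=
      { (inferInstance : Group (M ⧸ Subgroup.center M)) with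
        mul_comm := fun x y => by
          obtain ⟨u, rfl⟩ := QuotientGroup.mk_surjective x
          obtain ⟨v, rfl⟩ := QuotientGroup.mk_surjective y
          rw [← QuotientGroup.mk_mul, ← QuotientGroup.mk_mul, QuotientGroup.eq, Subgroup.mem_center_iff]
          intro w
          refine Subtype.ext (hcen _ ?_ w)
          have := hPair.comm (v : G)⁻¹ (inv_mem v.2) (u : G)⁻¹ (inv_mem u.2)
          push_cast
          simpa [mul_assoc] using this }
    exact CommGroup.isNilpotent
  have h4 : fq G ≤ hcc (G ⧸ M) := hcc_surj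
    (QuotientGroup.map M (Cfsg.fittingSubgroup G) (MonoidHom.id G) hMF) fun y => by
      obtain ⟨g, rfl⟩ := QuotientGroup.mk_surjective y
      exact ⟨(g : G ⧸ M), rfl⟩
  have h5 : hcc (G ⧸ M) ≤ hcc ((⊤ : Subgroup G).map (secHom A M)) :=
    hcc_quot_le M _ fun g hg => hK g (hCtop (Subgroup.mem_top g)) ((secHom_eq_one_iff A M g).mp hg)
  exact (Nat.mul_le_mul_right _ (h4.trans h5)).trans (h3.trans (Nat.pow_le_pow_right (by norm_num) her))

omit G V in
/-- The bound. -/
theorem cBound : ∀ r, 0 < r → CBound r := by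
  intro r
  induction r using Nat.strong_induction_on with
  | _ r IH =>
    intro hr0 G V _ _ _ _ _ _ ρ hρ hr
    haveI : Nontrivial V := Module.nontrivial_of_finrank_pos (R := ℂ) (hr ▸ hr0)
    by_cases hred : ∃ W : Submodule ℂ V, (∀ g, ∀ w ∈ W, ρ g w ∈ W) ∧ W ≠ ⊥ ∧ W ≠ ⊤
    · obtain ⟨W, hW, hb, ht⟩ := hred
      exact reducible (fun r' h h0 => IH r' h h0) hr ρ hρ W hW hb ht
    by_cases hsc : ∀ A : Subgroup G, A.Normal → (∀ a ∈ A, ∀ b ∈ A, a * b = b * a) → ∀ a ∈ A, ∃ c : ℂ, ρ a = c • 1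
    · exact primitive' hr ρ hρ hsc
    · push Not at hsc
      obtain ⟨A, hAn, hA, a, ha, hc⟩ := hsc
      haveI := hAn
      exact blocks (fun r' h h0 => IH r' h h0) hr ρ hρ A hA fun h => by
        obtain ⟨c, hc'⟩ := h a ha
        exact hc c hc'

end Cfsg.Agent.SolvBlockBound
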