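import Cfsg.Agent.Lib.SolvBlockBound.Linear
import Cfsg.Agent.Lib.Nearfield.Algebra
import Mathlib.LinearAlgebra.Projection
import Mathlib.Order.SupIndep

/-! An irreducible group either permutes a decomposition, or its abelian normal subgroups act
without singular elements. -/

set_option autoImplicit false
set_option linter.style.haveILetI false

namespace Cfsg.Agent.SolvBlockBound

universe u

variable {r : ℕ} [Fact r.Prime] {L V : Type u} [Group L] [AddCommGroup V] [Module (ZMod r) V]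

/-- A finite monoid element has an idempotent positive power. -/
theorem exists_idempotent_pow {M : Type*} [Monoid M] [Finite M] (x : M) :
    ∃ m : ℕ, 0 < m ∧ x ^ m * x ^ m = x ^ m := by
  obtain ⟨i, j, hij, h⟩ : ∃ i j, i < j ∧ x ^ i = x ^ j := by
    obtain ⟨i, j, hne, h⟩ := Finite.exists_ne_map_eq_of_infinite fun k : ℕ => x ^ k
    rcases lt_or_gt_of_ne hne with hlt | hlt
    · exact ⟨i, j, hlt, h⟩
    · exact ⟨j, i, hlt, h.symm⟩
  set d := j - i
  have hper : ∀ c k, i ≤ k → x ^ (k + c * d) = x ^ k := by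
    intro c
    induction c with
    | zero => simp
    | succ c ih =>
      intro k hk
      obtain ⟨l, rfl⟩ := Nat.exists_eq_add_of_le hk
      rw [show i + l + (c + 1) * d = i + d + (l + c * d) by ring, pow_add, show i + d = j by omega, ← h, ← pow_add,
        show i + (l + c * d) = i + l + c * d by ring, ih _ (by omega)]
  refine ⟨(i + 1) * d, Nat.mul_pos (by omega) (by omega), ?_⟩
  rw [← pow_add, hper (i + 1) _ (le_trans (by omega) (Nat.le_mul_of_pos_right _ (by omega)))]

/-- A decomposition permuted by the group. -/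
structure Blocks (ρ : L →* (V ≃ₗ[ZMod r] V)) where
  t : ℕ
  part : Fin t → Submodule (ZMod r) V
  two_le : 2 ≤ t
  ne_bot : ∀ i, part i ≠ ⊥
  indep : iSupIndep part
  sup : ⨆ i, part i = ⊤
  perm : ∀ g : L, ∀ i, ∃ j, (part i).map (ρ g).toLinearMap = part j

theorem dichotomy [Finite L] [Finite V] (ρ : L →* (V ≃ₗ[ZMod r] V)) (hirr : Irred ρ) (A : Subgroup L) [A.Normal]
    (hA : ∀ a ∈ A, ∀ b ∈ A, a * b = b * a) :
    (∀ x ∈ Algebra.adjoin (ZMod r) (Nearfield.toEnd ρ '' A), ∀ v : V, v ≠ 0 → x v = 0 → x = 0) ∨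
      Nonempty (Blocks ρ) := by
  classical
  haveI : Finite (Module.End (ZMod r) V) := Finite.of_injective (fun f : Module.End (ZMod r) V => (f : V → V))
    DFunLike.coe_injective
  set Φ := Nearfield.toEnd ρ
  set E := Algebra.adjoin (ZMod r) (Φ '' A)
  have hcomm : ∀ x ∈ E, ∀ y ∈ E, x * y = y * x := by
    intro x hx y hy
    refine (Algebra.commute_of_mem_adjoin_of_forall_mem_commute hy ?_).eq
    rintro _ ⟨b, hb, rfl⟩
    refine (Algebra.commute_of_mem_adjoin_of_forall_mem_commute hx ?_).symm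
    rintro _ ⟨a, ha, rfl⟩
    show Φ b * Φ a = Φ a * Φ b
    rw [← map_mul, ← map_mul, hA b hb a ha]
  let c : L → (Module.End (ZMod r) V →ₐ[ZMod r] Module.End (ZMod r) V) := fun g =>
    { toFun := fun x => Φ g * x * Φ g⁻¹
      map_one' := by rw [mul_one, ← map_mul, mul_inv_cancel, map_one]
      map_mul' := fun x y => by
        rw [show Φ g * x * Φ g⁻¹ * (Φ g * y * Φ g⁻¹) = Φ g * x * (Φ g⁻¹ * Φ g) * y * Φ g⁻¹ by simp only [mul_assoc],
          ← map_mul, inv_mul_cancel, map_one, mul_one]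
        simp only [mul_assoc]
      map_zero' := by simp
      map_add' := fun x y => by rw [mul_add, add_mul]
      commutes' := fun r' => by rw [← Algebra.commutes, mul_assoc, ← map_mul, mul_inv_cancel, map_one, mul_one] }
  have cE : ∀ g, ∀ x ∈ E, c g x ∈ E := by
    intro g x hx
    have : E ≤ E.comap (c g) := by
      refine Algebra.adjoin_le ?_
      rintro _ ⟨a, ha, rfl⟩
      show Φ g * Φ a * Φ g⁻¹ ∈ E
      rw [← map_mul, ← map_mul]
      exact Algebra.subset_adjoin ⟨_, ‹A.Normal›.conj_mem a ha g, rfl⟩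
    exact this hx
  have ccomp : ∀ g k x, c g (c k x) = c (g * k) x := fun g k x => by
    show Φ g * (Φ k * x * Φ k⁻¹) * Φ g⁻¹ = Φ (g * k) * x * Φ (g * k)⁻¹
    rw [mul_inv_rev, map_mul, map_mul]; simp only [mul_assoc]
  have cone : ∀ x, c 1 x = x := fun x => by
    show Φ 1 * x * Φ 1⁻¹ = x
    rw [inv_one, map_one, one_mul, mul_one]
  have move : ∀ g (x : Module.End (ZMod r) V) w, x (ρ g w) = ρ g (c g⁻¹ x w) := by
    intro g x w
    show x (ρ g w) = ρ g (ρ g⁻¹ (x (ρ g⁻¹⁻¹ w)))
    rw [inv_inv, ← LinearEquiv.mul_apply, ← map_mul, mul_inv_cancel, map_one, LinearEquiv.coe_one, id]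
  -- no nilpotents
  have hred : ∀ x ∈ E, IsNilpotent x → x = 0 := by
    intro x hxE hxn
    let T : Set (Module.End (ZMod r) V) := {x | x ∈ E ∧ IsNilpotent x}
    let W : Submodule (ZMod r) V := ⨅ y ∈ T, LinearMap.ker y
    have memW : ∀ v, v ∈ W ↔ ∀ y ∈ T, y v = 0 := fun v => by simp [W, Submodule.mem_iInf]
    have hinv : Inv ρ W := fun g w hw => (memW _).mpr fun y hy => by
      rw [move, (memW w).mp hw _ ⟨cE _ y hy.1, hy.2.map (c g⁻¹)⟩, map_zero]
    rcases hirr W hinv with h | h
    · have main : ∀ s : Finset (Module.End (ZMod r) V), (∀ y ∈ s, y ∈ T) → ∀ v : V, v ≠ 0 →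
          ∃ w : V, w ≠ 0 ∧ ∀ y ∈ s, y w = 0 := by
        intro s
        induction s using Finset.induction_on with
        | empty => exact fun _ v hv => ⟨v, hv, by simp⟩
        | insert y s _ ih =>
          intro hs v hv
          obtain ⟨w, hw, hsw⟩ := ih (fun z hz => hs z (Finset.mem_insert_of_mem hz)) v hv
          obtain ⟨hyE, N, hN⟩ := hs y (Finset.mem_insert_self y s)
          have hex : ∃ k, (y ^ k) w = 0 := ⟨N, by rw [hN]; rfl⟩
          have hk0 : Nat.find hex ≠ 0 := fun h0 => hw (by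
            have := Nat.find_spec hex
            rw [h0] at this
            simpa using this)
          obtain ⟨k, hk⟩ := Nat.exists_eq_succ_of_ne_zero hk0
          refine ⟨(y ^ k) w, Nat.find_min hex (by omega), fun z hz => ?_⟩
          rcases Finset.mem_insert.mp hz with rfl | hz
          · rw [← Module.End.mul_apply, ← pow_succ', ← Nat.succ_eq_add_one, ← hk]
            exact Nat.find_spec hex
          · rw [← Module.End.mul_apply, hcomm z (hs z (Finset.mem_insert_of_mem hz)).1 _ (pow_mem hyE k),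
              Module.End.mul_apply, hsw z hz, map_zero]
      refine LinearMap.ext fun v => ?_
      by_contra hv
      obtain ⟨w, hw, hTw⟩ := main (Set.toFinite T).toFinset (fun y hy => (Set.toFinite T).mem_toFinset.mp hy) v
        (fun h0 => hv (by rw [h0, map_zero]; rfl))
      have : w ∈ W := (memW w).mpr fun y hy => hTw y ((Set.toFinite T).mem_toFinset.mpr hy)
      rw [h, Submodule.mem_bot] at this
      exact hw this
    · exact LinearMap.ext fun v => (memW v).mp (h ▸ Submodule.mem_top) x ⟨hxE, hxn⟩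
  by_cases hidem : ∀ f ∈ E, f * f = f → f = 0 ∨ f = 1
  · refine Or.inl fun x hx v hv hxv => ?_
    obtain ⟨m, hm, hmm⟩ := exists_idempotent_pow x
    rcases hidem _ (pow_mem hx m) hmm with h | h
    · exact hred x hx ⟨m, h⟩
    · obtain ⟨k, rfl⟩ := Nat.exists_eq_succ_of_ne_zero hm.ne'
      refine absurd ?_ hv
      have := LinearMap.congr_fun h v
      rwa [pow_succ, Module.End.mul_apply, hxv, map_zero, Module.End.one_apply, eq_comm] at this
  refine Or.inr ?_
  push Not at hidem
  obtain ⟨f, hfE, hff, hf0, hf1⟩ := hidem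
  let I : Set (Module.End (ZMod r) V) := {e | e ∈ E ∧ e * e = e}
  have hImul : ∀ e ∈ I, ∀ f ∈ I, e * f ∈ I := fun e he f hf =>
    ⟨mul_mem he.1 hf.1, IsIdempotentElem.mul_of_commute (hcomm e he.1 f hf.1) he.2 hf.2⟩
  have cI : ∀ g, ∀ e ∈ I, c g e ∈ I := fun g e he => ⟨cE g e he.1, by rw [← map_mul, he.2]⟩
  obtain ⟨e, ⟨heI, he0⟩, hemin⟩ := (Set.toFinite {e | e ∈ I ∧ e ≠ 0}).exists_minimalFor
    (fun e : Module.End (ZMod r) V => Module.finrank (ZMod r) (LinearMap.range e)) _ ⟨f, ⟨hfE, hff⟩, hf0⟩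
  have atom : ∀ f ∈ I, e * f = 0 ∨ e * f = e := by
    intro f hf
    by_contra h
    push Not at h
    have hle : LinearMap.range (e * f) ≤ LinearMap.range e := by
      rw [Module.End.mul_eq_comp]; exact LinearMap.range_comp_le_range _ _
    have heq := Submodule.eq_of_le_of_finrank_le hle
      (hemin (j := e * f) ⟨hImul e heI f hf, h.1⟩ (Submodule.finrank_mono hle))
    refine h.2 (LinearMap.ext fun v => ?_)
    obtain ⟨w, hw⟩ : e v ∈ LinearMap.range (e * f) := heq ▸ LinearMap.mem_range_self e v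
    have h1 : (e * f) * e = e * f := by rw [mul_assoc, hcomm f hf.1 e heI.1, ← mul_assoc, heI.2]
    calc (e * f) v = ((e * f) * e) v := by rw [h1]
      _ = (e * f) ((e * f) w) := by rw [Module.End.mul_apply, hw]
      _ = (e * f) w := by rw [← Module.End.mul_apply, (hImul e heI f hf).2]
      _ = e v := hw
  have atom_c : ∀ g, ∀ f ∈ I, c g e * f = 0 ∨ c g e * f = c g e := by
    intro g f hf
    have hb : c g (c g⁻¹ f) = f := by rw [ccomp, mul_inv_cancel, cone]
    rw [← hb, ← map_mul]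
    rcases atom _ (cI g⁻¹ f hf) with h1 | h1
    · exact Or.inl (by rw [h1, map_zero])
    · exact Or.inr (by rw [h1])
  let O : Finset (Module.End (ZMod r) V) := (Set.toFinite (Set.range fun g : L => c g e)).toFinset
  have memO : ∀ x, x ∈ O ↔ ∃ g, c g e = x := fun x => by simp [O]
  have OI : ∀ x ∈ O, x ∈ I := fun x hx => by obtain ⟨g, rfl⟩ := (memO x).mp hx; exact cI g e heI
  have Oorth : ∀ x ∈ O, ∀ y ∈ O, x ≠ y → x * y = 0 := by
    intro x hx y hy hxy
    obtain ⟨g, rfl⟩ := (memO x).mp hx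
    obtain ⟨k, rfl⟩ := (memO y).mp hy
    rcases atom_c g _ (cI k e heI) with h1 | h1
    · exact h1
    rcases atom_c k _ (cI g e heI) with h2 | h2
    · rw [hcomm _ (cI g e heI).1 _ (cI k e heI).1, h2]
    · exact absurd (by rw [← h1, hcomm _ (cI g e heI).1 _ (cI k e heI).1, h2]) hxy
  set s := ∑ x ∈ O, x with hs
  have hxs : ∀ x ∈ O, x * s = x := fun x hx => by
    rw [hs, Finset.mul_sum, Finset.sum_eq_single x (fun y hy hyx => Oorth x hx y hy hyx.symm) (absurd hx)]
    exact (OI x hx).2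
  have cO : ∀ g, ∀ x ∈ O, c g x ∈ O := fun g x hx => by
    obtain ⟨k, rfl⟩ := (memO x).mp hx; exact (memO _).mpr ⟨g * k, (ccomp g k e).symm⟩
  have csfix : ∀ g, c g s = s := fun g => by
    rw [hs, map_sum]
    refine Finset.sum_bij' (fun x _ => c g x) (fun x _ => c g⁻¹ x) (fun x hx => cO g x hx) (fun x hx => cO g⁻¹ x hx)
      (fun x _ => ?_) (fun x _ => ?_) (fun x _ => rfl)
    · rw [ccomp, inv_mul_cancel, cone]
    · rw [ccomp, mul_inv_cancel, cone]
  have hs1 : s = 1 := by
    have hss : s * s = s := by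
      conv_lhs => arg 1; rw [hs]
      rw [Finset.sum_mul]
      exact (Finset.sum_congr rfl hxs).trans hs.symm
    rcases hirr (LinearMap.range s) (by
      rintro g w ⟨v, rfl⟩
      refine ⟨ρ g v, ?_⟩
      rw [move, csfix]) with h | h
    · exfalso
      have := hxs e ((memO e).mpr ⟨1, cone e⟩)
      rw [LinearMap.range_eq_bot.mp h, mul_zero] at this
      exact he0 this.symm
    · refine LinearMap.ext fun v => ?_
      obtain ⟨w, rfl⟩ : v ∈ LinearMap.range s := h ▸ Submodule.mem_top
      rw [← Module.End.mul_apply, hss]; rfl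
  let ι := O.equivFin
  let D : Fin O.card → Submodule (ZMod r) V := fun i => LinearMap.range (ι.symm i : Module.End (ZMod r) V)
  refine ⟨⟨O.card, D, ?_, fun i => ?_, ?_, ?_, fun g i => ?_⟩⟩
  · by_contra hlt
    have heO : e ∈ O := (memO e).mpr ⟨1, cone e⟩
    have h1 : O = {e} := Finset.eq_singleton_iff_unique_mem.mpr
      ⟨heO, fun x hx => Finset.card_le_one.mp (by omega) x hx e heO⟩
    have he1 : e = 1 := by rw [← hs1, hs, h1, Finset.sum_singleton]
    rcases atom f ⟨hfE, hff⟩ with h | h <;> rw [he1, one_mul] at h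
    · exact hf0 h
    · exact hf1 h
  · intro h
    obtain ⟨g, hg⟩ := (memO _).mp (ι.symm i).2
    refine he0 ?_
    have h0 : c g e = 0 := hg.trans (LinearMap.range_eq_bot.mp h)
    rw [← cone e, ← inv_mul_cancel g, ← ccomp, h0, map_zero]
  · intro i
    rw [disjoint_iff_inf_le]
    rintro v ⟨hv1, hv2⟩
    have hle : (⨆ j ≠ i, D j) ≤ LinearMap.ker (ι.symm i : Module.End (ZMod r) V) := by
      refine iSup₂_le fun j hj => ?_
      rintro _ ⟨w, rfl⟩
      rw [LinearMap.mem_ker, ← Module.End.mul_apply, Oorth _ (ι.symm i).2 _ (ι.symm j).2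
        (fun h => hj (ι.symm.injective (Subtype.ext h.symm)))]
      rfl
    obtain ⟨w, rfl⟩ := hv1
    have := hle hv2
    rw [LinearMap.mem_ker, ← Module.End.mul_apply, (OI _ (ι.symm i).2).2] at this
    rw [this]
    exact Submodule.zero_mem _
  · rw [eq_top_iff]
    intro v _
    have : v = ∑ x ∈ O, x v := by
      conv_lhs => rw [show v = s v by rw [hs1]; rfl]
      rw [hs]; exact LinearMap.sum_apply _ _ _
    rw [this]
    exact Submodule.sum_mem _ fun x hx => Submodule.mem_iSup_of_mem (ι ⟨x, hx⟩) (by simp [D])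
  · refine ⟨ι ⟨_, cO g _ (ι.symm i).2⟩, ?_⟩
    simp only [D, Equiv.symm_apply_apply]
    ext v
    constructor
    · rintro ⟨_, ⟨w, rfl⟩, rfl⟩
      refine ⟨ρ g w, ?_⟩
      rw [move, ccomp, inv_mul_cancel, cone]; rfl
    · rintro ⟨w, rfl⟩
      refine ⟨_, ⟨ρ g⁻¹ w, rfl⟩, ?_⟩
      rfl

end Cfsg.Agent.SolvBlockBound
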