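import Cfsg.Agent.Lib.SolvBlockBound.Weight
import Cfsg.Agent.Lib.Solvable.Basic

/-! Class numbers as a weight, and conjugation on elementary abelian normal subgroups. -/

set_option autoImplicit false
set_option linter.style.haveILetI false

namespace Cfsg.Agent.SolvBlockBound

open scoped IsMulCommutative

universe u

/-- The base of the exponential bound for class numbers of linear groups over `ZMod r`. -/
def cst (r : ℕ) : ℕ := if r = 2 then 4 else 3 * r

/-- Class numbers. -/
noncomputable def ccW (r : ℕ) [Fact r.Prime] : Weight.{u} r where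
  C := cst r
  P := fun L _ => Group.IsSolvable L ∧ Cfsg.pCore r L = ⊥
  val := fun {L V} _ _ _ _ => hcc L
  solv := fun _ _ _ h => h.1
  noR := fun _ _ _ h => h.2
  normal := fun L _ _ h B hB => by
    haveI := h.1
    haveI := hB
    refine ⟨inferInstance, ?_⟩
    have := Cores.pCore_map_subtype B r
    rwa [h.2, bot_inf_eq, Subgroup.map_eq_bot_iff_of_injective _ B.subtype_injective] at this
  image := fun {L V} _ _ _ _ _ _ σ h hirr => by
    haveI := h.1
    exact ⟨Group.isSolvable_of_surjective (f := σ.rangeRestrict) σ.rangeRestrict_surjective,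
      pCore_eq_bot_of_irred Subtype.val_injective hirr⟩
  split := fun ρ W h _ _ => hcc_le_ker_range (quot ρ W h)
  ext := fun ρ B _ _ _ => hcc_le_quot B

variable {G : Type u} [Group G] {r : ℕ} [Fact r.Prime]

/-- Conjugation on an elementary abelian normal subgroup. -/
noncomputable def conjRep (N : Subgroup G) [N.Normal] [IsMulCommutative N] [Module (ZMod r) (Additive N)] :
    G →* (Additive N ≃ₗ[ZMod r] Additive N) where
  toFun g := (MulEquiv.toAdditive (MulAut.conjNormal (H := N) g)).toLinearEquiv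
    fun c x => ZMod.map_smul (MulEquiv.toAdditive (MulAut.conjNormal (H := N) g)).toAddMonoidHom c x
  map_one' := LinearEquiv.ext fun x => by
    show Additive.ofMul (MulAut.conjNormal (1 : G) x.toMul) = x
    rw [map_one]; rfl
  map_mul' g h := LinearEquiv.ext fun x => by
    show Additive.ofMul (MulAut.conjNormal (g * h) x.toMul) = _
    rw [map_mul]; rfl

theorem conjRep_coe (N : Subgroup G) [N.Normal] [IsMulCommutative N] [Module (ZMod r) (Additive N)] (g : G)
    (x : Additive N) : ((conjRep (r := r) N g x).toMul : G) = g * (x.toMul : G) * g⁻¹ := rfl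

theorem conjRep_eq_one_iff (N : Subgroup G) [N.Normal] [IsMulCommutative N] [Module (ZMod r) (Additive N)] (g : G) :
    conjRep (r := r) N g = 1 ↔ ∀ x ∈ N, g * x = x * g := by
  constructor
  · intro h x hx
    have := congrArg (fun z : Additive N => (z.toMul : G)) (LinearEquiv.congr_fun h (Additive.ofMul ⟨x, hx⟩))
    simp only [conjRep_coe, toMul_ofMul, LinearEquiv.coe_one, id_eq] at this
    exact mul_inv_eq_iff_eq_mul.mp this
  · intro h
    refine LinearEquiv.ext fun z => congrArg Additive.ofMul (Subtype.ext ?_)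
    show g * (z.toMul : G) * g⁻¹ = (z.toMul : G)
    rw [h _ z.toMul.2, mul_inv_cancel_right]

/-- An invariant subspace gives a normalised subgroup. -/
theorem conjRep_irred (N : Subgroup G) [N.Normal] [IsMulCommutative N] [Module (ZMod r) (Additive N)]
    (H : Subgroup G)
    (hmin : ∀ S : Subgroup G, S ≤ N → (∀ h ∈ H, ∀ x ∈ S, h * x * h⁻¹ ∈ S) → S = ⊥ ∨ S = N) :
    Irred ((conjRep (r := r) N).comp H.subtype) := by
  intro W hW
  let S : Subgroup G := (AddSubgroup.toSubgroup' W.toAddSubgroup).map N.subtype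
  have hS : ∀ x, x ∈ S ↔ ∃ hx : x ∈ N, Additive.ofMul (⟨x, hx⟩ : N) ∈ W := fun x => by
    constructor
    · rintro ⟨⟨a, ha⟩, hm, rfl⟩; exact ⟨ha, hm⟩
    · rintro ⟨hx, hm⟩; exact ⟨⟨x, hx⟩, hm, rfl⟩
  rcases hmin S (fun x hx => ((hS x).mp hx).1) (fun h hh x hx => by
    obtain ⟨hxN, hm⟩ := (hS x).mp hx
    exact (hS _).mpr ⟨‹N.Normal›.conj_mem x hxN h, hW ⟨h, hh⟩ _ hm⟩) with e | e
  · refine Or.inl ((Submodule.eq_bot_iff _).mpr fun z hz => ?_)
    have : (z.toMul : G) ∈ S := (hS _).mpr ⟨z.toMul.2, hz⟩
    rw [e, Subgroup.mem_bot] at this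
    exact congrArg Additive.ofMul (Subtype.ext this : z.toMul = 1)
  · refine Or.inr (eq_top_iff.mpr fun z _ => ?_)
    obtain ⟨_, hm⟩ := (hS (z.toMul : G)).mp (e.symm ▸ z.toMul.2)
    exact hm

/-- The module structure. -/
@[reducible] noncomputable def modOf (N : Subgroup G) [IsMulCommutative N] (hexp : ∀ x ∈ N, x ^ r = 1) :
    Module (ZMod r) (Additive N) :=
  AddCommGroup.zmodModule fun x => congrArg Additive.ofMul
    (Subtype.ext (by simpa using hexp _ x.toMul.2) : x.toMul ^ r = 1)

end Cfsg.Agent.SolvBlockBound
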