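import Cfsg.Agent.Lib.SolvBlockBound.Dichotomy
import Cfsg.Agent.Lib.Nearfield.Algebra

/-! The field spanned by an abelian normal subgroup without singular elements. -/

set_option autoImplicit false
set_option linter.style.haveILetI false

namespace Cfsg.Agent.SolvBlockBound

open Module Cfsg.Agent.Nearfield

universe u

variable {r : ℕ} [Fact r.Prime] {G V : Type u} [Group G] [Finite G] [AddCommGroup V] [Module (ZMod r) V] [Finite V]
  [Nontrivial V]

set_option maxHeartbeats 1000000 in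
set_option synthInstance.maxHeartbeats 200000 in
/-- The field of an abelian normal subgroup, and what it forces. -/
theorem exists_field (ρ : G →* (V ≃ₗ[ZMod r] V)) (hρ : Function.Injective ρ)
    (A : Subgroup G) [A.Normal] (hA : ∀ a ∈ A, ∀ b ∈ A, a * b = b * a)
    (hns : ∀ x ∈ Algebra.adjoin (ZMod r) (Nearfield.toEnd ρ '' A), ∀ v : V, v ≠ 0 → x v = 0 → x = 0) :
    ∃ a b : ℕ, 0 < a ∧ 0 < b ∧ a * b = finrank (ZMod r) V ∧ Nat.card A ∣ r ^ a - 1 ∧
      (Subgroup.centralizer (A : Set G)).index ∣ a ∧ IsCyclic A ∧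
      (∀ M : Subgroup G, M ≤ Subgroup.centralizer (A : Set G) → (∀ u ∈ M, ∀ v ∈ M, u * v * u⁻¹ * v⁻¹ ∈ A) →
        (∀ u ∈ M, (∀ v ∈ M, u * v = v * u) → u ∈ A) → A.relIndex M ≤ b * b) ∧
      (∀ x ∈ A, ∀ v : V, v ≠ 0 → ρ x v = v → x = 1) ∧
      (∀ g : G, g ∉ Subgroup.centralizer (A : Set G) → ∃ a' : ℕ, a' ∣ a ∧ a' < a ∧
        Nat.card ↥(A ⊓ Subgroup.centralizer ({g} : Set G)) ≤ r ^ a' - 1) := by
  classical
  set Φ := toEnd ρ with hΦ
  have hΦinj : Function.Injective Φ := fun a b h => hρ (LinearEquiv.ext fun v => LinearMap.congr_fun h v)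
  set E : Subalgebra (ZMod r) (Module.End (ZMod r) V) := Algebra.adjoin (ZMod r) (Φ '' A) with hE
  have hgen : ∀ a ∈ A, Φ a ∈ E := fun a ha => Algebra.subset_adjoin ⟨a, ha, rfl⟩
  have hcomm : ∀ x ∈ E, ∀ y ∈ E, x * y = y * x := by
    intro x hx y hy
    refine (Algebra.commute_of_mem_adjoin_of_forall_mem_commute hy ?_).eq
    rintro _ ⟨b, hb, rfl⟩
    refine (Algebra.commute_of_mem_adjoin_of_forall_mem_commute hx ?_).symm
    rintro _ ⟨a, ha, rfl⟩
    show Φ b * Φ a = Φ a * Φ b
    rw [← map_mul, ← map_mul, hA b hb a ha]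
  let c : G → (Module.End (ZMod r) V →ₐ[ZMod r] Module.End (ZMod r) V) := fun g =>
    { toFun := fun x => Φ g * x * Φ g⁻¹
      map_one' := by rw [mul_one, ← map_mul, mul_inv_cancel, map_one]
      map_mul' := fun x y => by
        rw [show Φ g * x * Φ g⁻¹ * (Φ g * y * Φ g⁻¹) = Φ g * x * (Φ g⁻¹ * Φ g) * y * Φ g⁻¹ by simp only [mul_assoc],
          ← map_mul, inv_mul_cancel, map_one, mul_one]
        simp only [mul_assoc]
      map_zero' := by simp
      map_add' := fun x y => by rw [mul_add, add_mul]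
      commutes' := fun r => by rw [← Algebra.commutes, mul_assoc, ← map_mul, mul_inv_cancel, map_one, mul_one] }
  have hconj : ∀ g : G, ∀ x ∈ E, Φ g * x * Φ g⁻¹ ∈ E := by
    intro g x hx
    have : E ≤ E.comap (c g) := by
      rw [hE]
      refine Algebra.adjoin_le ?_
      rintro _ ⟨a, ha, rfl⟩
      show Φ g * Φ a * Φ g⁻¹ ∈ E
      rw [← map_mul, ← map_mul]
      exact hgen _ (‹A.Normal›.conj_mem a ha g)
    exact this hx
  have hinjE : ∀ {x : Module.End (ZMod r) V}, x ∈ E → ∀ {v : V}, v ≠ 0 → x v = 0 → x = 0 :=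
    fun {x} hx {v} hv hxv => hns x hx v hv hxv
  haveI : Finite (Module.End (ZMod r) V) := Finite.of_injective (fun f : Module.End (ZMod r) V => (f : V → V))
    DFunLike.coe_injective
  haveI : Finite E := inferInstanceAs (Finite {x // x ∈ E})
  obtain ⟨v0, hv0⟩ := exists_ne (0 : V)
  haveI : Nontrivial E := ⟨0, 1, fun h => hv0 (by
    have := LinearMap.congr_fun (congrArg Subtype.val h) v0
    simpa using this.symm)⟩
  haveI : NoZeroDivisors E := ⟨fun {x y} h => by
    by_contra hne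
    push Not at hne
    obtain ⟨v, hv⟩ : ∃ v, (y : Module.End (ZMod r) V) v ≠ 0 := by
      by_contra hc
      push Not at hc
      exact hne.2 (Subtype.ext (LinearMap.ext hc))
    exact hne.1 (Subtype.ext (hinjE x.2 hv (LinearMap.congr_fun (congrArg Subtype.val h) v)))⟩
  haveI : IsDomain E := NoZeroDivisors.to_isDomain E
  letI : CommRing E := { (inferInstance : Ring E) with mul_comm := fun x y => Subtype.ext (hcomm x x.2 y y.2) }
  letI : Field E := (Finite.isField_of_domain E).toField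
  haveI := Fintype.ofFinite E
  set d := finrank (ZMod r) E with hd
  set m := finrank E V with hm
  have hEcard : Nat.card E = r ^ d := by
    rw [Module.natCard_eq_pow_finrank (K := ZMod r) (V := E), Nat.card_zmod]
  have hd0 : 0 < d := Module.finrank_pos
  have hm0 : 0 < m := Module.finrank_pos
  -- `A` embeds in the units
  let κ : A →* E := { toFun := fun a => ⟨Φ a, hgen a a.2⟩, map_one' := Subtype.ext (map_one Φ), map_mul' := fun a b => Subtype.ext (map_mul Φ _ _) }
  let κu : A →* Eˣ := MonoidHom.toHomUnits κ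
  have hκ : Function.Injective κu := fun a b h => Subtype.ext (hΦinj (congrArg Subtype.val (congrArg Units.val h)))
  have hAdvd : Nat.card A ∣ r ^ d - 1 := by
    rw [← hEcard, ← Nat.card_units]
    exact Subgroup.card_dvd_of_injective κu hκ
  -- conjugation gives automorphisms of `E`
  let θ0 : G → (E →ₐ[ZMod r] E) := fun g => ((c g).comp E.val).codRestrict E (fun x => hconj g x x.2)
  have hθ0 : ∀ (g : G) (x : E), (θ0 g x : Module.End (ZMod r) V) = Φ g * x * Φ g⁻¹ := fun _ _ => rfl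
  have hθmul : ∀ g k : G, θ0 (g * k) = (θ0 g).comp (θ0 k) := fun g k => AlgHom.ext fun x => Subtype.ext (by
    rw [AlgHom.comp_apply, hθ0, hθ0, hθ0, mul_inv_rev, map_mul, map_mul]
    simp only [mul_assoc])
  have hθone : θ0 1 = AlgHom.id _ _ := AlgHom.ext fun x => Subtype.ext (by
    rw [hθ0, inv_one, map_one, one_mul, mul_one]; rfl)
  let θ : G →* (E ≃ₐ[ZMod r] E) :=
    { toFun := fun g => AlgEquiv.ofAlgHom (θ0 g) (θ0 g⁻¹) (by rw [← hθmul, mul_inv_cancel, hθone])
        (by rw [← hθmul, inv_mul_cancel, hθone])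
      map_one' := AlgEquiv.ext fun x => AlgHom.congr_fun hθone x
      map_mul' := fun g k => AlgEquiv.ext fun x => AlgHom.congr_fun (hθmul g k) x }
  have hker : θ.ker = Subgroup.centralizer (A : Set G) := by
    ext g
    rw [MonoidHom.mem_ker, Subgroup.mem_centralizer_iff]
    constructor
    · intro h a ha
      have h1 : Φ g * Φ a * Φ g⁻¹ = Φ a := congrArg Subtype.val (AlgEquiv.congr_fun h ⟨Φ a, hgen a ha⟩)
      rw [← map_mul, ← map_mul] at h1
      exact (mul_inv_eq_iff_eq_mul.mp (hΦinj h1)).symm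
    · intro h
      refine AlgEquiv.ext fun x => Subtype.ext ?_
      show Φ g * (x : Module.End (ZMod r) V) * Φ g⁻¹ = x
      have hc : Commute (Φ g) (x : Module.End (ZMod r) V) :=
        Algebra.commute_of_mem_adjoin_of_forall_mem_commute x.2 (by
          rintro _ ⟨a, ha, rfl⟩
          show Φ g * Φ a = Φ a * Φ g
          rw [← map_mul, ← map_mul, h a ha])
      rw [hc.eq, mul_assoc, ← map_mul, mul_inv_cancel, map_one, mul_one]
  have hidx : (Subgroup.centralizer (A : Set G)).index ∣ d := by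
    rw [← hker, Subgroup.index_ker, hd, ← IsGalois.card_aut_eq_finrank (ZMod r) E]
    exact Subgroup.card_subgroup_dvd_card _
  have hcyc : IsCyclic A := isCyclic_of_injective κu hκ
  have hbound : ∀ M : Subgroup G, M ≤ Subgroup.centralizer (A : Set G) → (∀ u ∈ M, ∀ v ∈ M, u * v * u⁻¹ * v⁻¹ ∈ A) →
      (∀ u ∈ M, (∀ v ∈ M, u * v = v * u) → u ∈ A) → A.relIndex M ≤ m * m := by
    intro M hMC hcom hcen
    have hlin : ∀ u : M, ∀ (x : E) (w : V), Φ (u : G) ((x : Module.End (ZMod r) V) w) =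
        (x : Module.End (ZMod r) V) (Φ (u : G) w) := by
      intro u x w
      have hc : Commute (Φ (u : G)) (x : Module.End (ZMod r) V) :=
        Algebra.commute_of_mem_adjoin_of_forall_mem_commute x.2 (by
          rintro _ ⟨a, ha, rfl⟩
          show Φ (u : G) * Φ a = Φ a * Φ (u : G)
          rw [← map_mul, ← map_mul, Subgroup.mem_centralizer_iff.mp (hMC u.2) a ha])
      exact LinearMap.congr_fun hc.eq w
    let L : M → (V →ₗ[E] V) := fun u =>
      { toFun := fun w => Φ (u : G) w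
        map_add' := fun a b => map_add _ a b
        map_smul' := fun x w => hlin u x w }
    have hLv : ∀ (v u : M) (w : V), L v (L u (L v⁻¹ w)) =
        (⟨Φ ((v : G) * u * (v : G)⁻¹ * (u : G)⁻¹), hgen _ (hcom v v.2 u u.2)⟩ : E) • (L u w) := by
      intro v u w
      show Φ (v : G) (Φ (u : G) (Φ ((v⁻¹ : M) : G) w)) = Φ ((v : G) * u * (v : G)⁻¹ * (u : G)⁻¹) (Φ (u : G) w)
      rw [← Module.End.mul_apply, ← Module.End.mul_apply, ← Module.End.mul_apply, ← map_mul, ← map_mul, ← map_mul,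
        Subgroup.coe_inv, inv_mul_cancel_right]
    let f : M ⧸ A.subgroupOf M → (V →ₗ[E] V) := fun c => L c.out
    let lam : M ⧸ A.subgroupOf M → M → E := fun c v =>
      ⟨Φ ((v : G) * c.out * (v : G)⁻¹ * (c.out : G)⁻¹), hgen _ (hcom v v.2 c.out c.out.2)⟩
    have hsep : ∀ i j, (∀ v, lam i v = lam j v) → i = j := by
      intro i j hij
      rw [← QuotientGroup.out_eq' i, ← QuotientGroup.out_eq' j, QuotientGroup.eq, Subgroup.mem_subgroupOf]
      refine hcen _ ((i.out⁻¹ * j.out : M)).2 fun v hv => ?_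
      have h1 : v * (i.out : G) * v⁻¹ * (i.out : G)⁻¹ = v * (j.out : G) * v⁻¹ * (j.out : G)⁻¹ :=
        hΦinj (congrArg Subtype.val (hij ⟨v, hv⟩))
      have h2 : (v * (i.out : G) * v⁻¹)⁻¹ * (v * (j.out : G) * v⁻¹) = (i.out : G)⁻¹ * (j.out : G) := by
        calc (v * (i.out : G) * v⁻¹)⁻¹ * (v * (j.out : G) * v⁻¹)
            = (i.out : G)⁻¹ * (v * (i.out : G) * v⁻¹ * (i.out : G)⁻¹)⁻¹ *
                (v * (j.out : G) * v⁻¹ * (j.out : G)⁻¹) * (j.out : G) := by group
          _ = _ := by rw [h1]; group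
      show ((i.out⁻¹ * j.out : M) : G) * v = v * ((i.out⁻¹ * j.out : M) : G)
      push_cast
      conv_lhs => rw [← h2]
      group
    haveI : Fintype (M ⧸ A.subgroupOf M) := Fintype.ofFinite _
    have hne : ∀ i, f i ≠ 0 := by
      intro i hz
      refine hv0 ?_
      have := LinearMap.congr_fun hz (Φ ((i.out : G))⁻¹ v0)
      rw [show v0 = (Φ (i.out : G)) (Φ ((i.out : G))⁻¹ v0) by
        rw [← Module.End.mul_apply, ← map_mul, mul_inv_cancel, map_one]; rfl]
      exact this
    have hle := card_le_finrank_sq (K := E) f hne (fun i j hij => by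
      obtain ⟨v, hv⟩ : ∃ v, lam i v ≠ lam j v := by
        by_contra hc
        push Not at hc
        exact hij (hsep i j hc)
      exact ⟨L v, L v⁻¹, fun k => lam k v, fun k w => hLv v k.out w, hv⟩)
    rw [← Nat.card_eq_fintype_card] at hle
    exact hle
  refine ⟨d, m, hd0, hm0, Module.finrank_mul_finrank (ZMod r) E V, hAdvd, hidx, hcyc, hbound, ?_, ?_⟩
  · intro x hx v hv hxv
    refine hΦinj ((sub_eq_zero.mp (hinjE (sub_mem (hgen x hx) (one_mem E)) hv ?_)).trans (map_one Φ).symm)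
    rw [LinearMap.sub_apply, Module.End.one_apply]
    exact sub_eq_zero.mpr hxv
  · intro g hg
    have hσ : θ g ≠ 1 := fun h => hg (hker ▸ h)
    set H := Subgroup.zpowers (θ g)
    set K := IntermediateField.fixedField H
    refine ⟨finrank (ZMod r) K, Dvd.intro _ (Module.finrank_mul_finrank (ZMod r) K E), ?_, ?_⟩
    · refine lt_of_le_of_ne (Nat.le_of_dvd hd0 (Dvd.intro _ (Module.finrank_mul_finrank (ZMod r) K E))) fun h => ?_
      have h1 := Module.finrank_mul_finrank (ZMod r) K E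
      rw [h, IntermediateField.finrank_fixedField_eq_card] at h1
      have h2 : Nat.card H = 1 := Nat.eq_of_mul_eq_mul_left hd0 (by rw [mul_one]; exact h1)
      exact hσ (Subgroup.zpowers_eq_bot.mp (Subgroup.card_eq_one.mp h2))
    · haveI := Fintype.ofFinite K
      rw [show r ^ finrank (ZMod r) K - 1 = Nat.card Kˣ by
        rw [Nat.card_units, Module.natCard_eq_pow_finrank (K := ZMod r) (V := K), Nat.card_zmod]]
      let f : ↥(A ⊓ Subgroup.centralizer ({g} : Set G)) → Kˣ := fun x => Units.mk0 ⟨κ ⟨x, x.2.1⟩, fun σ => by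
          have hfix : θ g (κ ⟨x, x.2.1⟩) = κ ⟨x, x.2.1⟩ := Subtype.ext (by
            show Φ g * Φ x * Φ g⁻¹ = Φ x
            rw [← map_mul, ← map_mul, ← Subgroup.mem_centralizer_singleton_iff.mp x.2.2, mul_inv_cancel_right])
          obtain ⟨σ, hσ'⟩ := σ
          obtain ⟨i, rfl⟩ := Subgroup.mem_zpowers_iff.mp hσ'
          exact (zpow_mem (show θ g ∈ MulAction.stabilizer (E ≃ₐ[ZMod r] E) (κ ⟨x, x.2.1⟩) from hfix) i)⟩
        (fun h => (κu ⟨x, x.2.1⟩).ne_zero (congrArg Subtype.val h))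
      refine Nat.card_le_card_of_injective f fun x y h => ?_
      have h2 := congrArg (fun z : Kˣ => ((z : K) : E)) h
      exact Subtype.ext (congrArg (fun z : A => (z : G)) (hκ (Units.ext h2) : (⟨x, x.2.1⟩ : A) = ⟨y, y.2.1⟩))

end Cfsg.Agent.SolvBlockBound
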