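import Cfsg.Agent.Lib.SolvBlockBound.Class
import Cfsg.Agent.Lib.Cores.Basic
import Mathlib.LinearAlgebra.GeneralLinearGroup.Basic
import Mathlib.LinearAlgebra.Dimension.RankNullity
import Mathlib.LinearAlgebra.FiniteDimensional.Basic
import Mathlib.FieldTheory.Finite.Basic
import Mathlib.GroupTheory.Solvable
import Mathlib.Algebra.Module.ZMod

/-! Recursion on reducible modules, for weights attached to linear groups over prime fields. -/

set_option autoImplicit false
set_option linter.style.haveILetI false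

namespace Cfsg.Agent.SolvBlockBound

universe u

instance finite_linearEquiv {R M : Type*} [Semiring R] [AddCommMonoid M] [Module R M] [Finite M] :
    Finite (M ≃ₗ[R] M) :=
  Finite.of_injective (fun f : M ≃ₗ[R] M => (f : M → M)) DFunLike.coe_injective

variable {r : ℕ} [Fact r.Prime] {L V : Type u} [Group L] [AddCommGroup V] [Module (ZMod r) V]

/-- An invariant subspace. -/
def Inv (ρ : L →* (V ≃ₗ[ZMod r] V)) (W : Submodule (ZMod r) V) : Prop := ∀ g : L, ∀ w ∈ W, ρ g w ∈ W

/-- Irreducibility. -/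
def Irred (ρ : L →* (V ≃ₗ[ZMod r] V)) : Prop :=
  ∀ W : Submodule (ZMod r) V, Inv ρ W → W = ⊥ ∨ W = ⊤

/-- The action on an invariant subspace. -/
def restr (ρ : L →* (V ≃ₗ[ZMod r] V)) (W : Submodule (ZMod r) V) (h : Inv ρ W) : L →* (W ≃ₗ[ZMod r] W) :=
  (LinearMap.GeneralLinearGroup.generalLinearEquiv (ZMod r) W).toMonoidHom.comp
    (MonoidHom.toHomUnits
      { toFun := fun g => (ρ g).toLinearMap.restrict (h g)
        map_one' := LinearMap.ext fun w => Subtype.ext (by simp)
        map_mul' := fun a b => LinearMap.ext fun w => Subtype.ext (by simp) })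

theorem restr_apply (ρ : L →* (V ≃ₗ[ZMod r] V)) (W : Submodule (ZMod r) V) (h : Inv ρ W) (g : L) (w : W) :
    ((restr ρ W h g w : W) : V) = ρ g w := rfl

/-- The action on the quotient by an invariant subspace. -/
def quot (ρ : L →* (V ≃ₗ[ZMod r] V)) (W : Submodule (ZMod r) V) (h : Inv ρ W) :
    L →* ((V ⧸ W) ≃ₗ[ZMod r] (V ⧸ W)) :=
  (LinearMap.GeneralLinearGroup.generalLinearEquiv (ZMod r) (V ⧸ W)).toMonoidHom.comp
    (MonoidHom.toHomUnits
      { toFun := fun g => W.mapQ W (ρ g).toLinearMap (h g)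
        map_one' := Submodule.linearMap_qext _ (LinearMap.ext fun v => by simp)
        map_mul' := fun a b => Submodule.linearMap_qext _ (LinearMap.ext fun v => by simp) })

theorem quot_apply (ρ : L →* (V ≃ₗ[ZMod r] V)) (W : Submodule (ZMod r) V) (h : Inv ρ W) (g : L) (v : V) :
    quot ρ W h g (Submodule.Quotient.mk v) = Submodule.Quotient.mk (ρ g v) := rfl

/-- Elements trivial on a subspace and on its quotient. -/
theorem ker_inf_eq_bot [Finite L] {ρ : L →* (V ≃ₗ[ZMod r] V)} (hρ : Function.Injective ρ)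
    (hno : Cfsg.pCore r L = ⊥) (W : Submodule (ZMod r) V) (h : Inv ρ W) :
    (restr ρ W h).ker ⊓ (quot ρ W h).ker = ⊥ := by
  refine le_bot_iff.mp (hno ▸ Cores.le_pCore (Subgroup.normal_inf_normal _ _) fun g => ⟨1, ?_⟩)
  obtain ⟨g, hg1, hg2⟩ := g
  refine Subtype.ext (hρ (LinearEquiv.ext fun v => ?_))
  have hW : ∀ w ∈ W, ρ g w = w := fun w hw =>
    congrArg Subtype.val (LinearEquiv.congr_fun (hg1 : restr ρ W h g = 1) ⟨w, hw⟩)
  have hd : ρ g v - v ∈ W := (Submodule.Quotient.eq W).mp (by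
    rw [← quot_apply ρ W h, show quot ρ W h g = 1 from hg2]; rfl)
  have hit : ∀ n : ℕ, (ρ (g ^ n)) v = v + n • (ρ g v - v) := by
    intro n
    induction n with
    | zero => simp
    | succ n ih =>
      rw [pow_succ', map_mul, LinearEquiv.mul_apply, ih, map_add, map_nsmul, hW _ hd, succ_nsmul]
      abel
  show ρ ((g ^ r ^ 1 : L)) v = ρ 1 v
  rw [pow_one, hit, ← Nat.cast_smul_eq_nsmul (ZMod r), ZMod.natCast_self, zero_smul, add_zero, map_one]
  rfl

/-- An irreducible faithful group has no normal `r`-subgroup. -/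
theorem pCore_eq_bot_of_irred [Finite L] [Finite V] [Nontrivial V] {ρ : L →* (V ≃ₗ[ZMod r] V)}
    (hρ : Function.Injective ρ) (hirr : Irred ρ) : Cfsg.pCore r L = ⊥ := by
  set R := Cfsg.pCore r L
  let act : MulAction R V := MulAction.compHom V (ρ.comp R.subtype)
  let F : Submodule (ZMod r) V :=
    { carrier := {v | ∀ x ∈ R, ρ x v = v}
      zero_mem' := fun x _ => map_zero _
      add_mem' := fun {a b} ha hb x hx => by rw [map_add, ha x hx, hb x hx]
      smul_mem' := fun c a ha x hx => by rw [map_smul, ha x hx] }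
  have hF : Inv ρ F := fun g v hv x hx => by
    have hy : g⁻¹ * x * g ∈ R := by
      simpa using (Cores.pCore_normal r L).conj_mem x hx g⁻¹
    rw [← LinearEquiv.mul_apply, ← map_mul, show x * g = g * (g⁻¹ * x * g) by group, map_mul,
      LinearEquiv.mul_apply, hv _ hy]
  rcases hirr F hF with h | h
  · exfalso
    have hdvd : r ∣ Nat.card V := by
      rw [Module.natCard_eq_pow_finrank (K := ZMod r) (V := V), Nat.card_zmod]
      exact dvd_pow_self r Module.finrank_pos.ne'
    letI := act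
    have hfp : (0 : V) ∈ MulAction.fixedPoints R V := fun x => map_zero (ρ x)
    obtain ⟨v, hv, hne⟩ := (Cores.isPGroup_pCore r L).exists_fixed_point_of_prime_dvd_card_of_fixed_point
      V hdvd hfp
    have : v ∈ F := fun x hx => hv ⟨x, hx⟩
    rw [h, Submodule.mem_bot] at this
    exact hne this.symm
  · refine (Subgroup.eq_bot_iff_forall _).mpr fun x hx => hρ (LinearEquiv.ext fun v => ?_)
    rw [map_one]
    exact (h ▸ Submodule.mem_top : v ∈ F) x hx

/-- A chain of invariant subspaces with `t` steps. -/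
def Chain (ρ : L →* (V ≃ₗ[ZMod r] V)) (t : ℕ) : Prop :=
  ∃ U : ℕ → Submodule (ZMod r) V, (∀ i ≤ t, Inv ρ (U i)) ∧ ∀ i < t, U i < U (i + 1)

theorem inv_bot (ρ : L →* (V ≃ₗ[ZMod r] V)) : Inv ρ ⊥ := fun g w hw => by
  rw [Submodule.mem_bot] at hw ⊢; rw [hw, map_zero]

theorem inv_top (ρ : L →* (V ≃ₗ[ZMod r] V)) : Inv ρ ⊤ := fun _ _ _ => Submodule.mem_top

theorem inv_inf {ρ : L →* (V ≃ₗ[ZMod r] V)} {U W : Submodule (ZMod r) V} (hU : Inv ρ U) (hW : Inv ρ W) :
    Inv ρ (U ⊓ W) := fun g w hw => ⟨hU g w hw.1, hW g w hw.2⟩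

theorem inv_sup {ρ : L →* (V ≃ₗ[ZMod r] V)} {U W : Submodule (ZMod r) V} (hU : Inv ρ U) (hW : Inv ρ W) :
    Inv ρ (U ⊔ W) := fun g w hw => by
  obtain ⟨a, ha, b, hb, rfl⟩ := Submodule.mem_sup.mp hw
  rw [map_add]
  exact Submodule.add_mem_sup (hU g a ha) (hW g b hb)

theorem chain_one (ρ : L →* (V ≃ₗ[ZMod r] V)) [Nontrivial V] : Chain ρ 1 :=
  ⟨fun i => if i = 0 then ⊥ else ⊤, fun i _ => by dsimp only; split_ifs <;> [exact inv_bot ρ; exact inv_top ρ],
    fun i hi => by obtain rfl : i = 0 := by omega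
                   simp⟩

theorem chain_restr {ρ : L →* (V ≃ₗ[ZMod r] V)} {W : Submodule (ZMod r) V} (hW : Inv ρ W)
    (hmax : ∀ U, Inv ρ U → W ≤ U → U = W ∨ U = ⊤) {t : ℕ} (hc : Chain ρ t) :
    Chain (restr ρ W hW) (t - 1) := by
  classical
  rcases Nat.eq_zero_or_pos t with ht | ht
  · subst ht
    exact ⟨fun _ => ⊥, fun i _ => inv_bot _, fun i hi => absurd hi (by omega)⟩
  obtain ⟨U, hinv, hlt⟩ := hc
  have hmono : ∀ i j, i ≤ j → j ≤ t → U i ≤ U j := by
    intro i j hij
    induction j, hij using Nat.le_induction with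
    | base => exact fun _ => le_rfl
    | succ j _ ih => exact fun hj => (ih (by omega)).trans (hlt j (by omega)).le
  have hcom : ∀ A : Submodule (ZMod r) V, Inv ρ A → Inv (restr ρ W hW) ((A ⊓ W).comap W.subtype) :=
    fun A hA g w hw => ⟨hA g w hw.1, hW g w w.2⟩
  have hstrict : ∀ A B : Submodule (ZMod r) V, A ⊓ W < B ⊓ W →
      (A ⊓ W).comap W.subtype < (B ⊓ W).comap W.subtype := by
    intro A B h
    refine lt_of_le_of_ne (Submodule.comap_mono h.le) fun e => h.ne ?_
    have := congrArg (Submodule.map W.subtype) e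
    rwa [Submodule.map_comap_subtype, Submodule.map_comap_subtype, ← inf_assoc, ← inf_assoc,
      inf_comm W A, inf_comm W B, inf_assoc, inf_assoc, inf_idem] at this
  -- past `W` the meets grow
  have hout : ∀ i, i < t → ¬ U i ≤ W → U i ⊓ W < U (i + 1) ⊓ W := by
    intro i hi hnot
    refine lt_of_le_of_ne (inf_le_inf_right _ (hlt i hi).le) fun e => (hlt i hi).ne ?_
    have htop : U i ⊔ W = ⊤ :=
      ((hmax _ (inv_sup (hinv i hi.le) hW) le_sup_right).resolve_left fun e' => hnot (e' ▸ le_sup_left))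
    exact eq_of_le_of_inf_le_of_sup_le (hlt i hi).le e.ge (by rw [htop]; exact le_top)
  refine ⟨fun i => (U (if U i ≤ W ∧ U (i + 1) ≤ W then i else i + 1) ⊓ W).comap W.subtype,
    fun i hi => ?_, fun i hi => hstrict _ _ ?_⟩
  · refine hcom _ (hinv _ ?_)
    split_ifs <;> omega
  · have hinW : ∀ j, j < t → U (j + 1) ≤ W → U j ⊓ W < U (j + 1) ⊓ W := fun j hj h => by
      rw [inf_eq_left.mpr h, inf_eq_left.mpr ((hlt j hj).le.trans h)]; exact hlt j hj
    by_cases h2 : U (i + 1) ≤ W
    · have h1 : U i ≤ W := (hlt i (by omega)).le.trans h2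
      rw [if_pos ⟨h1, h2⟩]
      split_ifs with h
      · exact hinW i (by omega) h2
      · refine (hinW i (by omega) h2).trans_le (inf_le_inf_right _ (hlt (i + 1) (by omega)).le)
    · rw [if_neg (fun h => h2 h.2), if_neg (fun h => h2 h.1)]
      exact hout (i + 1) (by omega) h2

end Cfsg.Agent.SolvBlockBound
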