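import Cfsg.Agent.Lib.SolvBlockBound.Elementary
import Cfsg.Agent.S0547
import Cfsg.Agent.Lib.Cores.Subnormal
import Mathlib.GroupTheory.GroupAction.Blocks

/-! Class numbers of solvable permutation groups, given the linear bound in smaller dimensions. -/

set_option autoImplicit false
set_option linter.style.haveILetI false

namespace Cfsg.Agent.SolvBlockBound

open MulAction
open scoped Pointwise IsMulCommutative

universe u

/-- The number of orbits. -/
noncomputable abbrev norb (G X : Type u) [Group G] [MulAction G X] : ℕ := Nat.card (orbitRel.Quotient G X)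

/-- The bound for at most `N` points. -/
def PermBound (N : ℕ) : Prop :=
  ∀ (G X : Type u) [Group G] [Finite G] [Group.IsSolvable G] [MulAction G X] [FaithfulSMul G X] [Finite X],
    Nat.card X ≤ N → cc G * 3 ^ norb G X ≤ 3 ^ Nat.card X

theorem norb_pos (G X : Type u) [Group G] [MulAction G X] [Finite X] [Nonempty X] : 1 ≤ norb G X :=
  haveI : Nonempty (orbitRel.Quotient G X) := ⟨Quotient.mk'' (Classical.arbitrary X)⟩
  Nat.card_pos

/-- The bound for the image of an action. -/
theorem PermBound.image {N : ℕ} (hB : PermBound.{u} N) (G X : Type u) [Group G] [Finite G] [Group.IsSolvable G]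
    [MulAction G X] [Finite X] [Nonempty X] (hX : Nat.card X ≤ N) :
    hcc (toPermHom G X).range * 3 ≤ 3 ^ Nat.card X := by
  haveI : Group.IsSolvable (toPermHom G X).range :=
    Group.isSolvable_of_surjective (f := (toPermHom G X).rangeRestrict) (toPermHom G X).rangeRestrict_surjective
  haveI : Finite (toPermHom G X).range := Finite.of_surjective _ (toPermHom G X).rangeRestrict_surjective
  refine hcc_mul_le fun S => ?_
  letI : MulAction S X := MulAction.compHom X ((toPermHom G X).range.subtype.comp S.subtype)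
  haveI : FaithfulSMul S X := ⟨fun {a b} h => Subtype.ext (Subtype.ext (Equiv.ext h))⟩
  refine le_trans (Nat.mul_le_mul_left _ ?_) (hB _ X hX)
  calc 3 = 3 ^ 1 := rfl
    _ ≤ _ := Nat.pow_le_pow_right (by norm_num) (norb_pos _ X)

variable {G X : Type u} [Group G] [Finite G] [Group.IsSolvable G] [MulAction G X] [FaithfulSMul G X] [Finite X]

theorem intransitive (IH : ∀ m < Nat.card X, PermBound.{u} m) (hint : ¬ IsPretransitive G X) :
    cc G * 3 ^ norb G X ≤ 3 ^ Nat.card X := by
  classical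
  rcases isEmpty_or_nonempty X with hX | hX
  · haveI : Subsingleton G := ⟨fun g h => eq_of_smul_eq_smul (α := X) fun x => isEmptyElim x⟩
    haveI : IsEmpty (orbitRel.Quotient G X) := ⟨fun q => Quotient.inductionOn' q fun x => isEmptyElim x⟩
    rw [norb, Nat.card_of_isEmpty, Nat.card_of_isEmpty, pow_zero, mul_one]
    exact (cc_le_card G).trans (Finite.card_le_one_iff_subsingleton.mpr ‹_›)
  obtain ⟨a⟩ := hX
  set B := orbit G a with hBdef
  have hBne : B ≠ Set.univ := by
    intro h
    refine hint ⟨fun x y => ?_⟩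
    obtain ⟨g, rfl⟩ : x ∈ orbit G a := by rw [← hBdef, h]; trivial
    obtain ⟨g', rfl⟩ : y ∈ orbit G a := by rw [← hBdef, h]; trivial
    exact ⟨g' * g⁻¹, by rw [mul_smul, inv_smul_smul]⟩
  have hadd : Nat.card B + Nat.card (Bᶜ : Set X) = Nat.card X := by
    rw [Nat.card_coe_set_eq, Nat.card_coe_set_eq, Set.ncard_add_ncard_compl]
  have hBlt : Nat.card B < Nat.card X := by
    have : 0 < Nat.card (Bᶜ : Set X) := by
      rw [Nat.card_coe_set_eq, Set.ncard_pos]
      exact Set.nonempty_compl.2 hBne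
    omega
  have hBpos : 0 < Nat.card B := by
    rw [Nat.card_coe_set_eq, Set.ncard_pos]
    exact ⟨a, mem_orbit_self a⟩
  haveI : Nonempty (orbit G a) := ⟨⟨a, mem_orbit_self a⟩⟩
  have h1 := (IH _ hBlt).image G (orbit G a) le_rfl
  set φ := toPermHom G (orbit G a)
  set K := φ.ker
  let actY : MulAction K (Bᶜ : Set X) :=
    { smul := fun k y => ⟨(k : G) • (y : X), fun h => y.2 (by
        have := mem_orbit_of_mem_orbit (k : G)⁻¹ h
        rwa [inv_smul_smul] at this)⟩
      one_smul := fun y => Subtype.ext (one_smul G _)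
      mul_smul := fun k l y => Subtype.ext (mul_smul (k : G) l _) }
  letI := actY
  haveI : FaithfulSMul K (Bᶜ : Set X) := ⟨fun {k l} h => Subtype.ext (eq_of_smul_eq_smul (α := X) fun x => by
    by_cases hx : x ∈ B
    · exact (congrArg Subtype.val (Equiv.ext_iff.1 k.2 ⟨x, hx⟩)).trans
        (congrArg Subtype.val (Equiv.ext_iff.1 l.2 ⟨x, hx⟩)).symm
    · exact congrArg Subtype.val (h ⟨x, hx⟩))⟩
  have h2 := (IH (Nat.card (Bᶜ : Set X)) (by omega)) K (Bᶜ : Set X) le_rfl
  have h5 : norb G X ≤ 1 + norb K (Bᶜ : Set X) := by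
    let f : Unit ⊕ orbitRel.Quotient K (Bᶜ : Set X) → orbitRel.Quotient G X :=
      Sum.elim (fun _ => Quotient.mk'' a)
        (Quotient.map' (fun y => (y : X)) (by rintro y z ⟨k, rfl⟩; exact ⟨(k : G), rfl⟩))
    have hf : Function.Surjective f := by
      intro q
      induction q using Quotient.inductionOn' with
      | h x =>
        by_cases hx : x ∈ B
        · exact ⟨Sum.inl (), (Quotient.sound' hx).symm⟩
        · exact ⟨Sum.inr (Quotient.mk'' ⟨x, hx⟩), rfl⟩
    have := Nat.card_le_card_of_surjective f hf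
    simpa [norb, Nat.card_sum] using this
  calc cc G * 3 ^ norb G X ≤ (cc K * hcc φ.range) * 3 ^ (1 + norb K (Bᶜ : Set X)) :=
        Nat.mul_le_mul ((cc_le_ker_range φ).trans (Nat.mul_le_mul_left _ (cc_le_hcc _)))
          (Nat.pow_le_pow_right (by norm_num) h5)
    _ = (hcc φ.range * 3) * (cc K * 3 ^ norb K (Bᶜ : Set X)) := by rw [pow_add, pow_one]; ring
    _ ≤ 3 ^ Nat.card B * 3 ^ Nat.card (Bᶜ : Set X) := Nat.mul_le_mul h1 h2
    _ = _ := by rw [← pow_add, hadd]

theorem imprimitive (IH : ∀ m < Nat.card X, PermBound.{u} m) [IsPretransitive G X] [Nonempty X]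
    (hnp : ¬ IsPreprimitive G X) : cc G * 3 ≤ 3 ^ Nat.card X := by
  classical
  obtain ⟨B, hB, hB1, hB2⟩ : ∃ B : Set X, IsBlock G B ∧ ¬ B.Subsingleton ∧ B ≠ Set.univ := by
    by_contra h
    push Not at h
    exact hnp ⟨fun {B} hB => B.subsingleton_or_nontrivial.imp id (h B hB)⟩
  have hBne : B.Nonempty := (Set.not_subsingleton_iff.1 hB1).nonempty
  have hmul := hB.ncard_block_mul_ncard_orbit_eq hBne
  rw [← Nat.card_coe_set_eq (orbit G B)] at hmul
  have hb2 : 2 ≤ B.ncard := (Set.one_lt_ncard_iff_nontrivial).2 (Set.not_subsingleton_iff.1 hB1)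
  haveI : Nonempty (orbit G B) := ⟨⟨B, mem_orbit_self B⟩⟩
  have ht0 : 0 < Nat.card (orbit G B) := Nat.card_pos
  have hlt : Nat.card (orbit G B) < Nat.card X := by nlinarith
  have h1 := (IH _ hlt).image G (orbit G B) le_rfl
  set φ := toPermHom G (orbit G B)
  set K := φ.ker with hK
  have hKfix : ∀ k ∈ K, ∀ g : G, k • g • B = g • B := fun k hk g =>
    congrArg Subtype.val (Equiv.ext_iff.1 hk ⟨g • B, mem_orbit B g⟩)
  obtain ⟨b, hb⟩ := hBne
  have hcov : ∀ x : X, ∃ g : G, g • b = x := fun x => exists_smul_eq G b x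
  choose sec hsec using hcov
  have hinX : ∀ x, x ∈ sec x • B := fun x => by
    have h : sec x • b ∈ sec x • B := Set.smul_mem_smul_set hb
    rwa [hsec x] at h
  have huniq : ∀ g h : G, ∀ x, x ∈ g • B → x ∈ h • B → g • B = h • B := fun g h x hg hh =>
    not_not.1 fun hne => Set.disjoint_left.1 (hB hne) hg hh
  have hKint : ¬ IsPretransitive K X := by
    intro hKt
    apply hB2
    refine Set.eq_univ_of_forall fun x => ?_
    obtain ⟨k, hk⟩ := exists_smul_eq K b x
    have := hKfix k k.2 1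
    rw [one_smul] at this
    rw [← this, ← hk]
    exact Set.smul_mem_smul_set hb
  have h4 := intransitive (G := K) IH hKint
  have h5 : Nat.card (orbit G B) ≤ norb K X := by
    let f : orbitRel.Quotient K X → orbit G B :=
      Quotient.lift (fun x => (⟨sec x • B, mem_orbit B _⟩ : orbit G B)) (by
        rintro x y ⟨k, rfl⟩
        refine Subtype.ext (huniq _ _ ((k : G) • y) (hinX _) ?_)
        rw [← hKfix k k.2 (sec y)]
        exact Set.smul_mem_smul_set (hinX y))
    refine Nat.card_le_card_of_surjective f ?_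
    rintro ⟨_, g, rfl⟩
    exact ⟨Quotient.mk'' (g • b), Subtype.ext (huniq _ _ (g • b) (hinX _) (Set.smul_mem_smul_set hb))⟩
  refine Nat.le_of_mul_le_mul_right ?_ (pow_pos (show 0 < 3 by norm_num) (Nat.card (orbit G B)))
  calc cc G * 3 * 3 ^ Nat.card (orbit G B) ≤ (cc K * hcc φ.range) * 3 * 3 ^ Nat.card (orbit G B) := by
        gcongr; exact (cc_le_ker_range φ).trans (Nat.mul_le_mul_left _ (cc_le_hcc _))
    _ = (hcc φ.range * 3) * (cc K * 3 ^ Nat.card (orbit G B)) := by ring
    _ ≤ 3 ^ Nat.card (orbit G B) * 3 ^ Nat.card X := Nat.mul_le_mul h1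
        ((Nat.mul_le_mul_left _ (Nat.pow_le_pow_right (by norm_num) h5)).trans h4)
    _ = _ := mul_comm _ _

theorem pow_cst_le {r : ℕ} (hr : r.Prime) {D : ℕ} (hD : 0 < D) : r ^ D * cst r ^ D ≤ 3 ^ (r ^ D) := by
  rw [← mul_pow]
  have hbase : ∀ {c : ℕ} (D : ℕ), 0 < D → 1 ≤ c → r * c ≤ 3 ^ r → (r * c) ^ D ≤ 3 ^ (r * D) := fun D _ _ h => by
    rw [pow_mul]; exact Nat.pow_le_pow_left h D
  have hlin : r * D ≤ r ^ D := by
    obtain ⟨k, rfl⟩ : ∃ k, D = k + 1 := ⟨D - 1, by omega⟩
    rw [pow_succ']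
    exact Nat.mul_le_mul_left _ (Nat.succ_le_of_lt (Nat.lt_pow_self hr.one_lt))
  refine le_trans ?_ (Nat.pow_le_pow_right (by norm_num) hlin)
  refine hbase D hD (Nat.one_le_iff_ne_zero.mpr ?_) ?_
  · unfold cst; split_ifs <;> [norm_num; exact Nat.mul_ne_zero (by norm_num) hr.ne_zero]
  · unfold cst
    split_ifs with h
    · subst h; norm_num
    · have h3 : 3 ≤ r := by have := hr.two_le; omega
      clear hlin hbase h hr
      induction r, h3 using Nat.le_induction with
      | base => norm_num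
      | succ n hn ih =>
        have : (n + 1) * (3 * (n + 1)) ≤ 3 * (n * (3 * n)) := by nlinarith
        rw [pow_succ']
        exact this.trans (Nat.mul_le_mul_left 3 ih)

theorem primitive (hB : ∀ (r : ℕ) [Fact r.Prime] (D : ℕ), 0 < D → r ^ D = Nat.card X → (ccW.{u} r).Bound D)
    [IsPreprimitive G X] (h2 : 2 ≤ Nat.card X) : cc G * 3 ≤ 3 ^ Nat.card X := by
  classical
  haveI : Nontrivial X := Finite.one_lt_card_iff_nontrivial.1 (by omega)
  obtain ⟨a, b, hab⟩ := exists_pair_ne X
  haveI : Nontrivial G := by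
    obtain ⟨g, hg⟩ := exists_smul_eq G a b
    exact ⟨⟨g, 1, fun h => hab (by rw [← hg, h, one_smul])⟩⟩
  obtain ⟨M, hMn, hMne, hmin⟩ := Cores.exists_minimal_normal (G := G)
  haveI := hMn
  obtain ⟨htr, hreg, r, D, hr, hD, hXc, hMc⟩ := S0547.result (G := G) (Ω := X) inferInstance M hMne hmin
  obtain ⟨hMcomm, r', hr', hpg, hexp⟩ := Solvable.elementaryAbelian_of_minimal_normal M hMne hmin
  haveI := hMcomm
  haveI := Fact.mk hr
  haveI := Fact.mk hr'
  obtain rfl : r = r' := by
    obtain ⟨d, hd⟩ := IsPGroup.iff_card.mp hpg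
    exact (Nat.prime_dvd_prime_iff_eq hr hr').mp (hr.dvd_of_dvd_pow (n := d) (hd ▸ hMc ▸ dvd_pow_self r hD.ne'))
  haveI : Module (ZMod r) (Additive M) := modOf (r := r) M hexp
  set H := stabilizer G a
  let σ : H →* (Additive M ≃ₗ[ZMod r] Additive M) := MonoidHom.comp (conjRep (r := r) M) H.subtype
  have hsup : ∀ g : G, ∃ m ∈ M, ∃ h ∈ H, m * h = g := fun g => by
    obtain ⟨m, hm⟩ := exists_smul_eq M a (g • a)
    refine ⟨m, m.2, (m : G)⁻¹ * g, ?_, mul_inv_cancel_left _ _⟩
    rw [mem_stabilizer_iff, mul_smul, ← hm]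
    exact inv_smul_smul (m : G) a
  have hσ : Function.Injective σ := by
    rw [← MonoidHom.ker_eq_bot_iff, Subgroup.eq_bot_iff_forall]
    intro h hh
    refine Subtype.ext (eq_of_smul_eq_smul (α := X) fun x => ?_)
    obtain ⟨m, rfl⟩ := exists_smul_eq M a x
    show (h : G) • (m : G) • a = (1 : G) • (m : G) • a
    rw [one_smul, ← mul_smul, (conjRep_eq_one_iff M (h : G)).mp hh m m.2, mul_smul, mem_stabilizer_iff.mp h.2]
  haveI : Nontrivial M := (Subgroup.nontrivial_iff_ne_bot M).mpr hMne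
  have hirr : Irred σ := conjRep_irred M H fun S hSM hinv => hmin S ⟨fun x hx g => by
    obtain ⟨m, hm, h, hh, rfl⟩ := hsup g
    have h1 := hinv h hh x hx
    have h2 : m * (h * x * h⁻¹) = (h * x * h⁻¹) * m :=
      congrArg Subtype.val (IsMulCommutative.is_comm.comm (⟨m, hm⟩ : M) ⟨_, hSM h1⟩)
    rw [show m * h * x * (m * h)⁻¹ = m * (h * x * h⁻¹) * m⁻¹ by group, h2, mul_inv_cancel_right]
    exact h1⟩ hSM
  have hfin : Module.finrank (ZMod r) (Additive M) = D := by
    have h := Module.natCard_eq_pow_finrank (K := ZMod r) (V := Additive M)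
    rw [Nat.card_zmod, Nat.card_congr Additive.toMul, hMc] at h
    exact (Nat.pow_right_injective hr.two_le h).symm
  have hP : (ccW.{u} r).P H := ⟨inferInstance, pCore_eq_bot_of_irred hσ hirr⟩
  have h1 : hcc H * 3 ^ 1 ≤ cst r ^ D :=
    hB r D hD hXc.symm H (Additive M) σ hσ hP hfin 1 le_rfl (chain_one _)
  have h3 : cc (G ⧸ M) ≤ cc H := by
    refine cc_surj ((QuotientGroup.mk' M).comp H.subtype) fun q => ?_
    obtain ⟨g, rfl⟩ := QuotientGroup.mk_surjective q
    obtain ⟨m, hm, h, hh, rfl⟩ := hsup g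
    refine ⟨⟨h, hh⟩, ?_⟩
    show (QuotientGroup.mk h : G ⧸ M) = QuotientGroup.mk (m * h)
    rw [QuotientGroup.mk_mul, (QuotientGroup.eq_one_iff m).mpr hm, one_mul]
  rw [pow_one] at h1
  calc cc G * 3 ≤ cc M * cc (G ⧸ M) * 3 := Nat.mul_le_mul_right _ (S4201.result M)
    _ ≤ r ^ D * (hcc H * 3) := by
      rw [mul_assoc]
      exact Nat.mul_le_mul ((cc_le_card M).trans_eq hMc) (Nat.mul_le_mul_right _ (h3.trans (cc_le_hcc _)))
    _ ≤ r ^ D * cst r ^ D := Nat.mul_le_mul_left _ h1
    _ ≤ _ := by rw [hXc]; exact pow_cst_le hr hD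

omit G X in
/-- The induction step. -/
theorem permBound_step (N : ℕ) (IH : ∀ m < N, PermBound.{u} m)
    (hB : ∀ (r : ℕ) [Fact r.Prime] (D : ℕ), 0 < D → D < N → (ccW.{u} r).Bound D) : PermBound.{u} N := by
  intro G X _ _ _ _ _ _ hX
  rcases lt_or_eq_of_le hX with h | h
  · exact IH _ h G X le_rfl
  by_cases htr : IsPretransitive G X
  · rcases Nat.lt_or_ge (Nat.card X) 2 with hm | hm
    · haveI : Subsingleton X := Finite.card_le_one_iff_subsingleton.mp (by omega)
      haveI : Subsingleton G := ⟨fun g k => eq_of_smul_eq_smul (α := X) fun x => Subsingleton.elim _ _⟩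
      have h1 : cc G ≤ 1 := (cc_le_card G).trans (Finite.card_le_one_iff_subsingleton.mpr inferInstance)
      have h2 : norb G X ≤ Nat.card X :=
        Nat.card_le_card_of_surjective (fun x : X => (Quotient.mk'' x : orbitRel.Quotient G X))
          (fun q => Quotient.inductionOn' q fun x => ⟨x, rfl⟩)
      calc cc G * 3 ^ norb G X ≤ 1 * 3 ^ Nat.card X := Nat.mul_le_mul h1 (Nat.pow_le_pow_right (by norm_num) h2)
        _ = _ := one_mul _
    · haveI : Nonempty X := (Nat.card_pos_iff.mp (by omega)).1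
      have h1 : norb G X = 1 := by
        refine le_antisymm ?_ (norb_pos G X)
        refine Finite.card_le_one_iff_subsingleton.2 ⟨fun q s => ?_⟩
        induction q using Quotient.inductionOn'
        induction s using Quotient.inductionOn'
        exact Quotient.sound' (mem_orbit_iff.2 (exists_smul_eq G _ _))
      rw [h1, pow_one]
      by_cases hp : IsPreprimitive G X
      · refine primitive (fun r _ D hD hrD => hB r D hD ?_) hm
        rw [← h, ← hrD]
        exact Nat.lt_pow_self (Fact.out : r.Prime).one_lt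
      · exact imprimitive (fun m hm' => IH m (h ▸ hm')) hp
  · exact intransitive (fun m hm' => IH m (h ▸ hm')) htr

end Cfsg.Agent.SolvBlockBound
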