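import Cfsg.Agent.Lib.SolvBlockBound.TwoFour

/-! The action on a section above a cyclic normal subgroup. -/

set_option autoImplicit false
set_option linter.style.haveILetI false

namespace Cfsg.Agent.SolvBlockBound

open Subgroup
open scoped IsMulCommutative

universe u

variable {G : Type u} [Group G]

instance map_mk'_normal (A Q : Subgroup G) [A.Normal] [Q.Normal] : (Q.map (QuotientGroup.mk' A)).Normal :=
  ‹Q.Normal›.map _ (QuotientGroup.mk'_surjective A)

/-- Conjugation on `Q / A`. -/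
def secHom (A Q : Subgroup G) [A.Normal] [Q.Normal] : G →* MulAut (Q.map (QuotientGroup.mk' A)) :=
  (MulAut.conjNormal (H := Q.map (QuotientGroup.mk' A))).comp (QuotientGroup.mk' A)

theorem secHom_eq_one_iff (A Q : Subgroup G) [A.Normal] [Q.Normal] (g : G) :
    secHom A Q g = 1 ↔ ∀ q ∈ Q, g * q * g⁻¹ * q⁻¹ ∈ A := by
  constructor
  · intro h q hq
    rw [← QuotientGroup.eq_one_iff]
    have h1 := congrArg Subtype.val (MulEquiv.congr_fun h ⟨(q : G ⧸ A), q, hq, rfl⟩)
    simp only [secHom, MonoidHom.comp_apply, QuotientGroup.mk'_apply, MulAut.conjNormal_apply, MulAut.one_apply] at h1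
    rw [QuotientGroup.mk_mul, QuotientGroup.mk_mul, QuotientGroup.mk_mul, QuotientGroup.mk_inv, QuotientGroup.mk_inv,
      h1, mul_inv_cancel]
  · intro h
    refine MulEquiv.ext fun x => Subtype.ext ?_
    obtain ⟨_, q, hq, rfl⟩ := x
    simp only [secHom, MonoidHom.comp_apply, QuotientGroup.mk'_apply, MulAut.conjNormal_apply, MulAut.one_apply]
    rw [← mul_inv_eq_one, ← QuotientGroup.mk_inv, ← QuotientGroup.mk_inv, ← QuotientGroup.mk_mul,
      ← QuotientGroup.mk_mul, ← QuotientGroup.mk_mul, QuotientGroup.eq_one_iff]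
    exact h q hq

/-- What is used about `A ≤ M`. -/
structure Ctx [Finite G] (A M : Subgroup G) : Prop where
  pair : Huppert.Pairing A M
  cent : M ≤ centralizer (A : Set G)
  nd : ∀ Q : Subgroup G, Q.Normal → A ≤ Q → Q ≤ M → Q ⊓ centralizer (Q : Set G) = A

/-- The bound on the groups induced on sections of order at most `N ^ 2`. -/
def SecBound (N : ℕ) : Prop :=
  ∀ (G : Type u) [Group G] [Finite G] [Group.IsSolvable G] (A M : Subgroup G) [A.Normal] [M.Normal], Ctx A M →
    ∀ (Q : Subgroup G) [Q.Normal], A ≤ Q → Q ≤ M → ∀ e, A.relIndex Q = e * e → e ≤ N →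
      ∀ K : Subgroup G, K.Normal → K ≤ centralizer (A : Set G) → hcc (K.map (secHom A Q)) * 3 ≤ 3 ^ e

theorem pow_cst_sec {r n : ℕ} (hr : r.Prime) (hn : 0 < n) (h22 : ¬ (r = 2 ∧ n ≤ 2)) (h31 : ¬ (r = 3 ∧ n = 1)) :
    cst r ^ (2 * n) ≤ 3 ^ (r ^ n) := by
  rw [pow_mul]
  by_cases h2 : r = 2
  · subst h2
    have h3 : 3 ≤ n := by omega
    show (cst 2 ^ 2) ^ n ≤ _
    have hc : cst 2 ^ 2 = 16 := by simp [cst]
    rw [hc]
    induction n, h3 using Nat.le_induction with
    | base => norm_num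
    | succ n hn' ih =>
      rw [pow_succ, pow_succ, pow_mul]
      refine le_trans (Nat.mul_le_mul (ih (by omega) (by omega) (by omega)) (?_ : 16 ≤ 3 ^ 2 ^ n)) (by rw [sq])
      calc 16 ≤ 3 ^ 2 ^ 3 := by norm_num
        _ ≤ _ := Nat.pow_le_pow_right (by norm_num) (Nat.pow_le_pow_right (by norm_num) hn')
  · have hr3 : 3 ≤ r := by have := hr.two_le; omega
    have hc : cst r ^ 2 = 9 * r ^ 2 := by simp [cst, h2]; ring
    rw [hc]
    by_cases h3 : r = 3
    · subst h3
      have hn2 : 2 ≤ n := by omega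
      clear h22 h31 hn hr h2 hr3 hc
      induction n, hn2 using Nat.le_induction with
      | base => norm_num
      | succ n hn' ih =>
        rw [pow_succ (9 * 3 ^ 2), show 3 ^ (n + 1) = 3 ^ n + 3 ^ n * 2 by ring, pow_add, pow_mul]
        refine Nat.mul_le_mul ih ?_
        calc 9 * 3 ^ 2 ≤ (3 ^ 3 ^ 2) ^ 2 := by norm_num
          _ ≤ _ := Nat.pow_le_pow_left (Nat.pow_le_pow_right (by norm_num) (Nat.pow_le_pow_right (by norm_num) hn')) 2
    · have h5 : 5 ≤ r := by
        by_contra h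
        interval_cases r
        · exact h3 rfl
        · exact absurd hr (by norm_num)
      have hbase : 9 * r ^ 2 ≤ 3 ^ r := by
        clear h3 h31 h22 h2 hr3 hc hr
        induction r, h5 using Nat.le_induction with
        | base => norm_num
        | succ m hm ih => rw [pow_succ' 3]; nlinarith
      calc (9 * r ^ 2) ^ n ≤ (3 ^ r) ^ n := Nat.pow_le_pow_left hbase n
        _ = 3 ^ (r * n) := (pow_mul _ _ _).symm
        _ ≤ _ := Nat.pow_le_pow_right (by norm_num) (by
          obtain ⟨k, rfl⟩ : ∃ k, n = k + 1 := ⟨n - 1, by omega⟩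
          rw [pow_succ']
          exact Nat.mul_le_mul_left _ (Nat.succ_le_of_lt (Nat.lt_pow_self hr.one_lt)))

/-- The commutator pairing with values in `A`. -/
theorem exists_commHom [Finite G] {A M : Subgroup G} (h : Huppert.Pairing A M) :
    haveI := h.cyc
    ∃ β : M →* M →* A, ∀ v l : M, ((β v l : A) : G) = (v : G) * l * (v : G)⁻¹ * (l : G)⁻¹ := by
  haveI := h.cyc
  have hmul1 : ∀ v v' l : G, v ∈ M → v' ∈ M → l ∈ M →
      v * v' * l * (v * v')⁻¹ * l⁻¹ = (v * l * v⁻¹ * l⁻¹) * (v' * l * v'⁻¹ * l⁻¹) := by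
    intro v v' l hv hv' hl
    have hc := h.central _ (h.comm v' hv' l hl) v hv
    calc v * v' * l * (v * v')⁻¹ * l⁻¹ = v * (v' * l * v'⁻¹ * l⁻¹) * (l * v⁻¹ * l⁻¹) := by group
      _ = (v' * l * v'⁻¹ * l⁻¹) * (v * l * v⁻¹ * l⁻¹) := by rw [← hc]; group
      _ = _ := h.central _ (h.comm v' hv' l hl) _ (h.le (h.comm v hv l hl))
  have hmul2 : ∀ v l l' : G, v ∈ M → l ∈ M → l' ∈ M →
      v * (l * l') * v⁻¹ * (l * l')⁻¹ = (v * l * v⁻¹ * l⁻¹) * (v * l' * v⁻¹ * l'⁻¹) := by
    intro v l l' hv hl hl'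
    have hc := h.central _ (h.comm v hv l' hl') l hl
    calc v * (l * l') * v⁻¹ * (l * l')⁻¹ = v * l * v⁻¹ * (v * l' * v⁻¹ * l'⁻¹) * l⁻¹ := by group
      _ = v * l * v⁻¹ * l⁻¹ * (l * (v * l' * v⁻¹ * l'⁻¹)) * l⁻¹ := by group
      _ = _ := by rw [← hc]; group
  exact ⟨MonoidHom.mk' (fun v => MonoidHom.mk' (fun l => (⟨(v : G) * l * (v : G)⁻¹ * (l : G)⁻¹, h.comm _ v.2 _ l.2⟩ : A))
      (fun l l' => Subtype.ext (hmul2 _ _ _ v.2 l.2 l'.2)))
    (fun v v' => MonoidHom.ext fun l => Subtype.ext (hmul1 _ _ _ v.2 v'.2 l.2)), fun v l => rfl⟩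

/-- Elements centralizing `A` act on a section of order nine with determinant one. -/
theorem det_eq_one [Finite G] {A M : Subgroup G} [A.Normal] [M.Normal] (hC : Ctx A M) (Q : Subgroup G) [Q.Normal]
    (hAQ : A ≤ Q) (hQM : Q ≤ M) [IsMulCommutative (Q.map (QuotientGroup.mk' A))]
    [Module (ZMod 3) (Additive (Q.map (QuotientGroup.mk' A)))]
    (b : Module.Basis (Fin 2) (ZMod 3) (Additive (Q.map (QuotientGroup.mk' A))))
    (g : G) (hg : g ∈ centralizer (A : Set G)) :
    (LinearMap.toMatrixAlgEquiv b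
      ((conjRep (r := 3) (Q.map (QuotientGroup.mk' A))) (g : G ⧸ A) : Additive _ ≃ₗ[ZMod 3] Additive _).toLinearMap).det = 1 := by
  classical
  set W := Q.map (QuotientGroup.mk' A)
  haveI := hC.pair.cyc
  obtain ⟨β, hβ⟩ := exists_commHom hC.pair
  have hlift : ∀ x : Additive W, ∃ u : M, (u : G) ∈ Q ∧ ((u : G) : G ⧸ A) = (x.toMul : G ⧸ A) := fun x => by
    obtain ⟨u, hu, he⟩ := x.toMul.2
    exact ⟨⟨u, hQM hu⟩, hu, he⟩
  obtain ⟨u, huQ, hu⟩ := hlift (b 0)
  obtain ⟨v, hvQ, hv⟩ := hlift (b 1)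
  have hA1 : ∀ x y : M, ((x : G) ∈ A ∨ (y : G) ∈ A) → β x y = 1 := by
    intro x y h
    refine Subtype.ext ?_
    rw [hβ, OneMemClass.coe_one, mul_inv_eq_one, mul_inv_eq_iff_eq_mul]
    rcases h with h | h
    · exact hC.pair.central _ h _ y.2
    · exact (hC.pair.central _ h _ x.2).symm
  have hself : ∀ x : M, β x x = 1 := fun x => Subtype.ext (by rw [hβ, OneMemClass.coe_one]; group)
  have hanti : ∀ x y : M, β y x = (β x y)⁻¹ := fun x y => Subtype.ext (by
    rw [InvMemClass.coe_inv, hβ, hβ]; group)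
  -- every element of `Q` is a product
  have hrep : ∀ z : M, (z : G) ∈ Q → ∀ i j : ℕ,
      (z : G ⧸ A) = ((i • b 0 + j • b 1).toMul : G ⧸ A) → ∃ a : M, (a : G) ∈ A ∧ z = u ^ i * v ^ j * a := by
    intro z _ i j he
    refine ⟨(u ^ i * v ^ j)⁻¹ * z, ?_, (mul_inv_cancel_left _ _).symm⟩
    rw [← QuotientGroup.eq_one_iff]
    push_cast
    rw [QuotientGroup.mk_mul, QuotientGroup.mk_inv, QuotientGroup.mk_mul, QuotientGroup.mk_pow, QuotientGroup.mk_pow,
      hu, hv, he, toMul_add, toMul_nsmul, toMul_nsmul]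
    push_cast
    rw [inv_mul_cancel]
  have hcoord : ∀ x : Additive W, ((b.repr x 0).val) • b 0 + ((b.repr x 1).val) • b 1 = x := fun x => by
    conv_rhs => rw [← b.sum_repr x]
    rw [Fin.sum_univ_two, ← Nat.cast_smul_eq_nsmul (ZMod 3), ← Nat.cast_smul_eq_nsmul (ZMod 3),
      ZMod.natCast_zmod_val, ZMod.natCast_zmod_val]
  set c := β u v with hc
  have hc1 : c ≠ 1 := by
    intro h1
    have hA : (u : G) ∈ A := by
      rw [← hC.nd Q inferInstance hAQ hQM]
      refine ⟨huQ, mem_centralizer_iff.mpr fun q hq => ?_⟩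
      obtain ⟨a, ha, hz⟩ := hrep ⟨q, hQM hq⟩ hq _ _ (congrArg (fun z : Additive W => (z.toMul : G ⧸ A))
        (hcoord (Additive.ofMul (⟨(q : G ⧸ A), q, hq, rfl⟩ : W)))).symm
      have hb : β u ⟨q, hQM hq⟩ = 1 := by
        rw [hz, map_mul, map_mul, map_pow, map_pow, hself, ← hc, h1, hA1 u a (Or.inr ha), one_pow, one_pow,
          one_mul, one_mul]
      have := congrArg Subtype.val hb
      rw [hβ, OneMemClass.coe_one, mul_inv_eq_one, mul_inv_eq_iff_eq_mul] at this
      exact this.symm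
    have h0 : b 0 = 0 := by
      refine congrArg Additive.ofMul (Subtype.ext ?_ : (b 0).toMul = 1)
      rw [← hu, OneMemClass.coe_one, QuotientGroup.eq_one_iff]; exact hA
    exact b.ne_zero 0 h0
  have hc3 : c ^ 3 = 1 := by
    have hu3 : ((u ^ 3 : M) : G) ∈ A := by
      rw [← QuotientGroup.eq_one_iff]
      push_cast
      rw [QuotientGroup.mk_pow, hu, ← SubgroupClass.coe_pow, ← toMul_nsmul,
        show (3 : ℕ) • b 0 = 0 by rw [← Nat.cast_smul_eq_nsmul (ZMod 3), ZMod.natCast_self, zero_smul],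
        toMul_zero, OneMemClass.coe_one]
    have := hA1 (u ^ 3) v (Or.inl hu3)
    rwa [map_pow, MonoidHom.pow_apply] at this
  -- the images
  set f : Additive W →ₗ[ZMod 3] Additive W := ((conjRep (r := 3) W) (g : G ⧸ A)).toLinearMap with hf
  set mm := LinearMap.toMatrixAlgEquiv b f with hmm
  have himg : ∀ (k : Fin 2) (z : M), (z : G) ∈ Q → ((z : G) : G ⧸ A) = ((b k).toMul : G ⧸ A) →
      ∃ a : M, (a : G) ∈ A ∧ (⟨g * z * g⁻¹, ‹M.Normal›.conj_mem z z.2 g⟩ : M) =
        u ^ (mm 0 k).val * v ^ (mm 1 k).val * a := by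
    intro k z hzQ hz
    refine hrep _ (‹Q.Normal›.conj_mem z hzQ g) _ _ ?_
    rw [hmm, LinearMap.toMatrixAlgEquiv_apply, LinearMap.toMatrixAlgEquiv_apply, hcoord]
    show ((g * z * g⁻¹ : G) : G ⧸ A) = _
    rw [hf, LinearEquiv.coe_coe, conjRep_coe, QuotientGroup.mk_mul, QuotientGroup.mk_mul, QuotientGroup.mk_inv, hz]
  obtain ⟨a, ha, hgu⟩ := himg 0 u huQ hu
  obtain ⟨a', ha', hgv⟩ := himg 1 v hvQ hv
  have hconj : β ⟨g * u * g⁻¹, ‹M.Normal›.conj_mem u u.2 g⟩ ⟨g * v * g⁻¹, ‹M.Normal›.conj_mem v v.2 g⟩ = c := by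
    refine Subtype.ext ?_
    rw [hβ, hc, hβ]
    push_cast
    have hx := mem_centralizer_iff.mp hg _ (hC.pair.comm u u.2 v v.2)
    calc g * u * g⁻¹ * (g * v * g⁻¹) * (g * u * g⁻¹)⁻¹ * (g * v * g⁻¹)⁻¹
        = g * ((u : G) * v * (u : G)⁻¹ * (v : G)⁻¹) * g⁻¹ := by group
      _ = _ := by rw [← hx, mul_inv_cancel_right]
  rw [hgu, hgv] at hconj
  simp only [map_mul, map_pow, MonoidHom.mul_apply, MonoidHom.pow_apply, hself, hanti u v, ← hc,
    hA1 a _ (Or.inl ha), hA1 _ a' (Or.inr ha'), one_pow, one_mul, mul_one, inv_pow, ← pow_mul] at hconj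
  -- exponents
  have ho : orderOf c = 3 := orderOf_eq_prime hc3 hc1
  have hz : c ^ ((((mm 0 0).val * (mm 1 1).val : ℕ) : ℤ) - (((mm 1 0).val * (mm 0 1).val : ℕ) : ℤ)) = c ^ (1 : ℤ) := by
    rw [zpow_one, zpow_sub, zpow_natCast, zpow_natCast]
    conv_rhs => rw [← hconj]
    rw [mul_comm (mm 0 0).val, mul_comm (mm 1 0).val]
    first
      | rfl
      | exact mul_comm _ _
      | simp [mul_comm]
  rw [zpow_eq_zpow_iff_modEq, ho, ← ZMod.intCast_eq_intCast_iff] at hz
  push_cast [ZMod.natCast_zmod_val] at hz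
  rw [Matrix.det_fin_two, mul_comm (mm 0 1)]
  exact hz

/-- An irreducible section. -/
theorem sec_irreducible [Finite G] [Group.IsSolvable G] {A M : Subgroup G} [A.Normal] [M.Normal] (hC : Ctx A M)
    (Q : Subgroup G) [Q.Normal] (hAQ : A ≤ Q) (hQM : Q ≤ M) {e : ℕ} (he : A.relIndex Q = e * e) (hlt : A < Q)
    (hmin : ∀ S : Subgroup G, S.Normal → A ≤ S → S ≤ Q → S = A ∨ S = Q)
    (hB : ∀ (r : ℕ) [Fact r.Prime] (D : ℕ), 0 < D → D < e → (ccW.{u} r).Bound D)
    (K : Subgroup G) [K.Normal] (hK : K ≤ centralizer (A : Set G)) : hcc (K.map (secHom A Q)) * 3 ≤ 3 ^ e := by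
  classical
  set π := QuotientGroup.mk' A
  set W := Q.map π
  have hWne : W ≠ ⊥ := fun h => hlt.not_ge (by
    rw [Subgroup.map_eq_bot_iff, QuotientGroup.ker_mk'] at h; exact h)
  have hWmin : ∀ S : Subgroup (G ⧸ A), S.Normal → S ≤ W → S = ⊥ ∨ S = W := by
    intro S hS hSW
    have h1 : S.comap π ≤ Q := (Subgroup.comap_mono hSW).trans (by
      rw [Subgroup.comap_map_eq, QuotientGroup.ker_mk']; exact sup_le le_rfl hAQ)
    have h2 : A ≤ S.comap π := fun a ha => by
      rw [Subgroup.mem_comap, show π a = 1 from (QuotientGroup.eq_one_iff a).mpr ha]; exact one_mem _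
    rcases hmin _ (hS.comap π) h2 h1 with h | h
    · left
      rw [← Subgroup.map_comap_eq_self_of_surjective (QuotientGroup.mk'_surjective A) S, h,
        Subgroup.map_eq_bot_iff, QuotientGroup.ker_mk']
    · right
      rw [← Subgroup.map_comap_eq_self_of_surjective (QuotientGroup.mk'_surjective A) S, h]
  obtain ⟨hWc, r, hr, hpg, hexp⟩ := Solvable.elementaryAbelian_of_minimal_normal W hWne hWmin
  haveI := hWc
  haveI := Fact.mk hr
  haveI : Module (ZMod r) (Additive W) := modOf (r := r) W hexp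
  haveI : Nontrivial W := (Subgroup.nontrivial_iff_ne_bot W).mpr hWne
  set ψ : G →* (Additive W ≃ₗ[ZMod r] Additive W) := MonoidHom.comp (conjRep (r := r) W) π with hψ
  have hψker : ∀ k, ψ k = 1 → secHom A Q k = 1 := fun k hk => MulEquiv.ext fun x => by
    have := LinearEquiv.congr_fun hk (Additive.ofMul x)
    exact congrArg Additive.toMul this
  refine le_trans (Nat.mul_le_mul_right _ (hcc_map_le_of_ker K (secHom A Q) ψ fun k _ hk => hψker k hk)) ?_
  set R := K.map ψ
  -- cardinality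
  have hcard : Nat.card W = e * e := by
    rw [← he]
    have h1 : Nat.card W = (A.subgroupOf Q).index := by
      have h2 := Cores.card_map_mul_ker π Q (by rw [QuotientGroup.ker_mk']; exact hAQ)
      have h3 := (A.subgroupOf Q).card_mul_index
      rw [Nat.card_congr (Subgroup.subgroupOfEquivOfLe hAQ).toEquiv] at h3
      rw [QuotientGroup.ker_mk'] at h2
      refine Nat.eq_of_mul_eq_mul_right (Nat.card_pos (α := A)) ?_
      rw [h2, mul_comm, h3]
    exact h1
  set D := Module.finrank (ZMod r) (Additive W) with hD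
  have hrD : r ^ D = e * e := by
    rw [← hcard, ← Nat.card_congr (Additive.toMul (α := W)), Module.natCard_eq_pow_finrank (K := ZMod r) (V := Additive W),
      Nat.card_zmod]
  have hD0 : 0 < D := Module.finrank_pos
  obtain ⟨n, -, hen⟩ := (Nat.dvd_prime_pow hr).mp (hrD ▸ Dvd.intro e rfl : e ∣ r ^ D)
  have hDn : D = 2 * n := Nat.pow_right_injective hr.two_le (by
    show r ^ D = r ^ (2 * n)
    rw [hrD, hen]; ring)
  have hn : 0 < n := by omega
  -- the image acts with trivial normal `r`-subgroups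
  have hirr : Irred ψ.range.subtype := by
    have h0 : Irred ((conjRep (r := r) W).comp (⊤ : Subgroup (G ⧸ A)).subtype) :=
      conjRep_irred W ⊤ fun S hS hinv => hWmin S ⟨fun x hx y => hinv y (mem_top y) x hx⟩ hS
    intro U hU
    refine h0 U fun x w hw => ?_
    obtain ⟨g, hg⟩ := QuotientGroup.mk_surjective (x : G ⧸ A)
    have := hU ⟨ψ g, g, rfl⟩ w hw
    simpa [hψ, π, hg] using this
  have hPR : (ccW.{u} r).P R := by
    have hsolv : Group.IsSolvable ψ.range :=
      Group.isSolvable_of_surjective (f := ψ.rangeRestrict) ψ.rangeRestrict_surjective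
    haveI := hsolv
    have hP0 : (ccW.{u} r).P ψ.range := ⟨hsolv, pCore_eq_bot_of_irred Subtype.val_injective hirr⟩
    have hle : R ≤ ψ.range := Subgroup.map_le_range ψ K
    haveI : (R.subgroupOf ψ.range).Normal := by
      refine ⟨fun x hx y => ?_⟩
      obtain ⟨k, hk, hkx⟩ := hx
      obtain ⟨g, hg⟩ := y.2
      refine ⟨g * k * g⁻¹, ‹K.Normal›.conj_mem k hk g, ?_⟩
      rw [map_mul, map_mul, map_inv, hkx, hg]; rfl
    have hP1 := (ccW.{u} r).normal ψ.range hP0 (R.subgroupOf ψ.range) inferInstance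
    let eR : R.subgroupOf ψ.range ≃* R := Subgroup.subgroupOfEquivOfLe hle
    refine ⟨?_, ?_⟩
    · haveI := hP1.1
      exact Group.isSolvable_of_surjective (f := eR.toMonoidHom) eR.surjective
    · rw [← Cores.pCore_map_mulEquiv eR r, hP1.2, Subgroup.map_bot]
  by_cases h2 : r = 2 ∧ n ≤ 2
  · obtain ⟨rfl, h2⟩ := h2
    rcases (by omega : n = 1 ∨ n = 2) with rfl | rfl
    · have := hcc_le_three_of_two R.subtype Subtype.val_injective (by rw [← hD]; omega)
      rw [hen]
      exact (Nat.mul_le_mul_right _ this).trans (by norm_num)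
    · have := cc_two_four (fun D' h h' => hB 2 D' h (by rw [hen]; omega)) R.subtype Subtype.val_injective hPR
        (by rw [← hD]; omega)
      rw [hen]
      exact (Nat.mul_le_mul_right _ this).trans (by norm_num)
  by_cases h3 : r = 3 ∧ n = 1
  · obtain ⟨rfl, rfl⟩ := h3
    let b := Module.finBasisOfFinrankEq (ZMod 3) (Additive W) (show Module.finrank (ZMod 3) (Additive W) = 2 by omega)
    let F : R →* SLTwoThree :=
      { toFun := fun x => ⟨LinearMap.toMatrixAlgEquiv b (x : Additive W ≃ₗ[ZMod 3] Additive W).toLinearMap, by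
          obtain ⟨k, hk, hkx⟩ := x.2
          rw [← hkx]
          exact det_eq_one hC Q hAQ hQM b k (hK hk)⟩
        map_one' := Subtype.ext (by
          show LinearMap.toMatrixAlgEquiv b (LinearMap.id : Additive W →ₗ[ZMod 3] Additive W) = 1
          exact map_one _)
        map_mul' := fun x y => Subtype.ext (map_mul (LinearMap.toMatrixAlgEquiv b)
          (x : Additive W ≃ₗ[ZMod 3] Additive W).toLinearMap (y : Additive W ≃ₗ[ZMod 3] Additive W).toLinearMap) }
    have hF : Function.Injective F := fun x y h => Subtype.ext (LinearEquiv.toLinearMap_injective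
      ((LinearMap.toMatrixAlgEquiv b).injective (congrArg Subtype.val h)))
    rw [hen, hcc_congr (MonoidHom.ofInjective hF)]
    exact (Nat.mul_le_mul_right _ (hcc_le fun S => (cc_congr (S.equivMapOfInjective F.range.subtype
      Subtype.val_injective)).trans_le (cc_sub_slTwoThree _))).trans (by norm_num)
  have hDe : D < e := by
    rw [hDn, hen]
    by_cases hr2 : r = 2
    · subst hr2
      have h3n : 3 ≤ n := by omega
      clear hDn hen hn h2 h3 hrD hirr hPR
      induction n, h3n using Nat.le_induction with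
      | base => norm_num
      | succ m hm ih => rw [pow_succ]; omega
    · have hr3 : 3 ≤ r := by have := hr.two_le; omega
      refine lt_of_lt_of_le ?_ (Nat.pow_le_pow_left hr3 n)
      clear hDn hen h2 h3 hrD hirr hPR
      induction n, hn using Nat.le_induction with
      | base => norm_num
      | succ m hm ih => rw [pow_succ]; omega
  have := hB r D hD0 hDe R (Additive W) R.subtype Subtype.val_injective hPR rfl 1 le_rfl (chain_one _)
  rw [pow_one] at this
  refine this.trans ?_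
  show cst r ^ D ≤ _
  rw [hDn, hen]
  exact pow_cst_sec hr hn h2 h3

/-- The induction step. -/
theorem secBound_step (N : ℕ) (IH : ∀ m < N, SecBound.{u} m)
    (hB : ∀ (r : ℕ) [Fact r.Prime] (D : ℕ), 0 < D → D < N → (ccW.{u} r).Bound D) : SecBound.{u} N := by
  intro G _ _ _ A M _ _ hC Q _ hAQ hQM e he heN K hKn hK
  haveI := hKn
  haveI := hC.pair.cyc
  rcases lt_or_eq_of_le heN with hlt' | rfl
  · exact IH e hlt' G A M hC Q hAQ hQM e he le_rfl K hKn hK
  have he0 : 0 < e := Nat.pos_of_ne_zero fun h => by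
    subst h; exact Subgroup.index_ne_zero_of_finite (H := A.subgroupOf Q) he
  by_cases hQA : Q = A
  · have h1 : ∀ g ∈ K, secHom A Q g = 1 := fun g _ => (secHom_eq_one_iff A Q g).mpr fun q hq => by
      rw [hQA] at hq; exact mul_mem (‹A.Normal›.conj_mem q hq g) (inv_mem hq)
    haveI : Subsingleton (K.map (secHom A Q)) := ⟨fun x y => by
      obtain ⟨k, hk, hk'⟩ := x.2
      obtain ⟨l, hl, hl'⟩ := y.2
      exact Subtype.ext (by rw [← hk', ← hl', h1 k hk, h1 l hl])⟩
    haveI : Finite (K.map (secHom A Q)) := Finite.of_subsingleton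
    calc _ ≤ 1 * 3 := Nat.mul_le_mul_right _ ((hcc_le_card _).trans (Finite.card_le_one_iff_subsingleton.mpr inferInstance))
      _ = 3 ^ 1 := rfl
      _ ≤ _ := Nat.pow_le_pow_right (by norm_num) he0
  obtain ⟨N', ⟨hN'n, hAN', hN'Q⟩, hN'min⟩ := (wellFounded_lt (α := Subgroup G)).has_min
    {S : Subgroup G | S.Normal ∧ A < S ∧ S ≤ Q} ⟨Q, inferInstance, lt_of_le_of_ne hAQ (Ne.symm hQA), le_rfl⟩
  haveI := hN'n
  by_cases hNQ : N' = Q
  · refine sec_irreducible hC Q hAQ hQM he (hNQ ▸ hAN') (fun S hS hAS hSQ => ?_) hB K hK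
    by_contra h
    push Not at h
    exact hN'min S ⟨hS, lt_of_le_of_ne hAS (Ne.symm h.1), hSQ⟩ (hNQ ▸ lt_of_le_of_ne hSQ h.2)
  set P := Huppert.perp Q N'
  haveI : P.Normal := inferInstanceAs (Q ⊓ centralizer (N' : Set G)).Normal
  have hN'M := hN'Q.trans hQM
  have hQpair : Huppert.Pairing A Q := ⟨hC.pair.cyc, hAQ, fun a ha v hv => hC.pair.central a ha v (hQM hv),
    fun x hx v hv => hC.pair.comm x (hQM hx) v (hQM hv)⟩
  have hN'pair : Huppert.Pairing A N' := ⟨hC.pair.cyc, hAN'.le, fun a ha v hv => hC.pair.central a ha v (hN'M hv),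
    fun x hx v hv => hC.pair.comm x (hN'M hx) v (hN'M hv)⟩
  have hAP : A ≤ P := le_inf hAQ fun a ha => mem_centralizer_iff.mpr fun v hv => (hC.pair.central a ha v (hN'M hv)).symm
  have hPQ : P ≤ Q := inf_le_left
  have hPpair : Huppert.Pairing A P := ⟨hC.pair.cyc, hAP, fun a ha v hv => hC.pair.central a ha v (hQM (hPQ hv)),
    fun x hx v hv => hC.pair.comm x (hQM (hPQ hx)) v (hQM (hPQ hv))⟩
  have hNP : N' ⊓ P = A := by
    refine le_antisymm ?_ (le_inf hAN'.le hAP)
    rw [← hC.nd N' inferInstance hAN'.le hN'M]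
    exact inf_le_inf_left _ inf_le_right
  have hidx : P.relIndex Q = A.relIndex N' := by
    rw [Huppert.perp_index hQpair hN'Q]
    congr 1
    refine le_antisymm ?_ (le_inf hAN'.le fun a ha => mem_centralizer_iff.mpr fun v hv =>
      (hC.pair.central a ha v (hQM hv)).symm)
    rw [← hC.nd N' inferInstance hAN'.le hN'M]
    exact inf_le_inf_left _ (centralizer_le hN'Q)
  obtain ⟨k, hk⟩ := Huppert.exists_sq hN'pair
  rw [hC.nd N' inferInstance hAN'.le hN'M] at hk
  obtain ⟨l, hl⟩ := Huppert.exists_sq hPpair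
  rw [hC.nd P inferInstance hAP (hPQ.trans hQM)] at hl
  have hmul : A.relIndex Q = (k * k) * (l * l) := by
    rw [← relIndex_mul_relIndex A P Q hAP hPQ, hidx, hk, hl, mul_comm]
  have hekl : e = k * l := by
    rw [he] at hmul
    exact Nat.mul_self_inj.mp (by rw [hmul]; ring)
  have hk2 : 2 ≤ k := by
    by_contra h
    interval_cases k
    · exact index_ne_zero_of_finite (H := A.subgroupOf N') hk
    · exact hAN'.not_ge (relIndex_eq_one.mp hk)
  have hsup : N' ⊔ P = Q := by
    refine le_antisymm (sup_le hN'Q hPQ) ?_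
    have h1 : A.relIndex (N' ⊔ P) = (k * k) * (l * l) := by
      rw [← relIndex_mul_relIndex A N' (N' ⊔ P) hAN'.le le_sup_left, hk, sup_comm, relIndex_sup_right,
        ← Subgroup.inf_relIndex_right, hNP, hl]
    have h2 := relIndex_mul_relIndex A (N' ⊔ P) Q (hAP.trans le_sup_right) (sup_le hN'Q hPQ)
    rw [h1, hmul] at h2
    refine relIndex_eq_one.mp (Nat.eq_of_mul_eq_mul_left (n := (k * k) * (l * l)) ?_ (by rw [mul_one]; exact h2))
    rw [← hmul, he]
    exact Nat.mul_pos he0 he0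
  have hl2 : 2 ≤ l := by
    by_contra h
    interval_cases l
    · exact index_ne_zero_of_finite (H := A.subgroupOf P) hl
    · refine hNQ (le_antisymm hN'Q ?_)
      rw [← hsup]
      exact sup_le le_rfl ((relIndex_eq_one.mp hl).trans hAN'.le)
  have hkN : k < e := by rw [hekl]; exact lt_mul_of_one_lt_right (by omega) (by omega)
  have hlN : l < e := by rw [hekl]; exact lt_mul_of_one_lt_left (by omega) (by omega)
  have hsplit : ∀ g ∈ K, secHom A N' g = 1 → secHom A P g = 1 → secHom A Q g = 1 := by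
    intro g _ h1 h2
    rw [secHom_eq_one_iff] at h1 h2 ⊢
    intro q hq
    rw [← hsup] at hq
    obtain ⟨x, hx, y, hy, rfl⟩ := mem_sup_of_normal_left.mp hq
    rw [← QuotientGroup.eq_one_iff]
    have hx' := (QuotientGroup.eq_one_iff _).mpr (h1 x hx)
    have hy' := (QuotientGroup.eq_one_iff _).mpr (h2 y hy)
    simp only [QuotientGroup.mk_mul, QuotientGroup.mk_inv, mul_inv_eq_iff_eq_mul, one_mul] at hx' hy' ⊢
    calc (g : G ⧸ A) * ((x : G ⧸ A) * y) = (g * x) * y := (mul_assoc _ _ _).symm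
      _ = x * (g * y) := by rw [hx', mul_assoc]
      _ = x * y * g := by rw [hy', mul_assoc]
  haveI : (K ⊓ (secHom A N').ker).Normal := inferInstance
  have h1 := IH l hlN G A M hC P hAP (hPQ.trans hQM) l hl le_rfl (K ⊓ (secHom A N').ker) inferInstance
    (inf_le_left.trans hK)
  have h2 := IH k hkN G A M hC N' hAN'.le hN'M k hk le_rfl K inferInstance hK
  refine Nat.le_of_mul_le_mul_right ?_ (show 0 < 3 by norm_num)
  calc hcc (K.map (secHom A Q)) * 3 * 3
      ≤ hcc ((K ⊓ (secHom A N').ker).map (secHom A P)) * hcc (K.map (secHom A N')) * 3 * 3 := by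
        gcongr
        exact hcc_map_le_two K _ _ _ hsplit
    _ = (hcc ((K ⊓ (secHom A N').ker).map (secHom A P)) * 3) * (hcc (K.map (secHom A N')) * 3) := by ring
    _ ≤ 3 ^ l * 3 ^ k := Nat.mul_le_mul h1 h2
    _ ≤ 3 ^ e * 3 := by
      rw [← pow_add, ← pow_succ]
      refine Nat.pow_le_pow_right (by norm_num) ?_
      rw [hekl]
      obtain ⟨k', rfl⟩ : ∃ k', k = k' + 2 := ⟨k - 2, by omega⟩
      obtain ⟨l', rfl⟩ : ∃ l', l = l' + 2 := ⟨l - 2, by omega⟩
      nlinarith

end Cfsg.Agent.SolvBlockBound
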