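import Cfsg.Agent.Lib.SolvBlockBound.Perm
import Cfsg.Agent.Lib.SolvBlockBound.Sections

/-! The joint recursion for permutation groups, sections and linear groups. -/

set_option autoImplicit false
set_option linter.style.haveILetI false

namespace Cfsg.Agent.SolvBlockBound

open scoped IsMulCommutative

universe u

variable {r : ℕ} [Fact r.Prime]

theorem Blocks.not_irred {L V : Type u} [Group L] [AddCommGroup V] [Module (ZMod r) V]
    {ρ : L →* (V ≃ₗ[ZMod r] V)} (b : Blocks ρ) : ¬ Irred (ρ.comp b.toPerm.ker.subtype) := fun h => by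
  have h0 : 0 < b.t := by have := b.two_le; omega
  rcases h _ (b.inv_part ⟨0, h0⟩) with e | e
  · exact b.ne_bot _ e
  · refine b.ne_bot ⟨1, b.two_le⟩ (le_bot_iff.mp ?_)
    rw [← disjoint_iff.mp (b.indep ⟨1, b.two_le⟩)]
    refine le_inf le_rfl (le_trans (le_trans le_top e.ge) ?_)
    exact le_iSup₂_of_le ⟨0, h0⟩ (by simp [Fin.ext_iff]) le_rfl

/-- The imprimitive step. -/
theorem Weight.imprimitive (ω : Weight.{u} r) {D : ℕ} (IH : ∀ D' < D, 0 < D' → ω.Bound D') (hperm : PermBound.{u} D)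
    {L V : Type u} [Group L] [Finite L] [AddCommGroup V] [Module (ZMod r) V] [Finite V]
    (ρ : L →* (V ≃ₗ[ZMod r] V)) (hρ : Function.Injective ρ) (hP : ω.P L)
    (hD : Module.finrank (ZMod r) V = D) (b : Blocks ρ) : ω.val ρ * 3 ≤ ω.C ^ D := by
  set B := b.toPerm.ker
  haveI := ω.solv L hP
  have ht1 : 1 ≤ b.t := le_trans (by norm_num) b.two_le
  have h1 := ω.reducible IH (ρ.comp B.subtype) (hρ.comp Subtype.val_injective) (ω.normal L hP B inferInstance) hD
    b.not_irred ht1 b.chain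
  haveI : Nonempty (ULift.{u} (Fin b.t)) := ⟨⟨⟨0, ht1⟩⟩⟩
  letI : MulAction L (ULift.{u} (Fin b.t)) := MulAction.compHom _ b.toPerm
  have hXcard : Nat.card (ULift.{u} (Fin b.t)) = b.t := by
    rw [Nat.card_eq_fintype_card, Fintype.card_ulift, Fintype.card_fin]
  have h2 := hperm.image L (ULift.{u} (Fin b.t)) (hXcard.trans_le (hD ▸ b.t_le))
  rw [show MulAction.toPermHom L (ULift.{u} (Fin b.t)) = b.toPerm from MonoidHom.ext fun g => Equiv.ext fun i => rfl,
    hXcard] at h2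
  rw [← hcc_congr (QuotientGroup.quotientKerEquivRange b.toPerm)] at h2
  refine Nat.le_of_mul_le_mul_right ?_ (pow_pos (show 0 < 3 by norm_num) b.t)
  calc ω.val ρ * 3 * 3 ^ b.t ≤ (ω.val (ρ.comp B.subtype) * hcc (L ⧸ B)) * 3 * 3 ^ b.t := by
        gcongr; exact ω.ext ρ B hρ hP
    _ = (ω.val (ρ.comp B.subtype) * 3 ^ b.t) * (hcc (L ⧸ B) * 3) := by ring
    _ ≤ ω.C ^ D * 3 ^ b.t := Nat.mul_le_mul h1 h2

/-- The structure of a primitive group. -/
theorem exists_structure {D : ℕ} (hsec : SecBound.{u} D) {L V : Type u} [Group L] [Finite L] [Group.IsSolvable L]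
    [AddCommGroup V] [Module (ZMod r) V] [Finite V] [Nontrivial V] (ρ : L →* (V ≃ₗ[ZMod r] V))
    (hρ : Function.Injective ρ) (hD : Module.finrank (ZMod r) V = D) (hirr : Irred ρ) (hno : ¬ Nonempty (Blocks ρ)) :
    ∃ a b e : ℕ, 0 < a ∧ a * b = D ∧ 1 ≤ e ∧ e ≤ b ∧ (r = 2 → 2 ≤ e → 2 ≤ a) ∧
      ∃ (M : Subgroup L) (_ : M.Normal), hcc M ≤ (r ^ a - 1) * (e * e) ∧ hcc (L ⧸ M) * 3 ≤ a * 3 ^ e ∧
        ∀ v : V, v ≠ 0 → ∀ x ∈ M, ρ x v = v → ∀ y ∈ M, ρ y v = v → x * y = y * x := by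
  classical
  obtain ⟨A, -, hAmax⟩ := Finite.exists_le_maximal (α := Subgroup L)
    (p := fun A => A.Normal ∧ ∀ x ∈ A, ∀ y ∈ A, x * y = y * x) (a := ⊥)
    ⟨inferInstance, fun x hx y hy => by rw [Subgroup.mem_bot.mp hx, Subgroup.mem_bot.mp hy]⟩
  obtain ⟨hAn, hA⟩ := hAmax.prop
  haveI := hAn
  have hns := (dichotomy ρ hirr A hA).resolve_right hno
  obtain ⟨a, b, ha, hb, hab, hAdvd, hidx, hcyc, hbound, hreg, -⟩ := exists_field ρ hρ A hA hns
  haveI := hcyc
  rw [hD] at hab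
  have hmax : ∀ B : Subgroup L, B.Normal → (∀ a ∈ B, ∀ b ∈ B, a * b = b * a) → A ≤ B → B = A :=
    fun B hB hBc hAB => le_antisymm (hAmax.2 ⟨hB, hBc⟩ hAB) hAB
  obtain ⟨M, hMn, hPair, hMC, hnd, -, hK, -⟩ := Huppert.exists_class_two A hA hmax
  haveI := hMn
  have hndQ : ∀ Q : Subgroup L, Q.Normal → A ≤ Q → Q ≤ M → Q ⊓ Subgroup.centralizer (Q : Set L) = A := by
    intro Q hQ hAQ hQM
    haveI := hQ
    exact hmax _ inferInstance (fun x hx y hy => Subgroup.mem_centralizer_iff.mp hy.2 x hx.1)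
      (le_inf hAQ fun x hx => Subgroup.mem_centralizer_iff.mpr fun y hy => (hPair.central x hx y (hQM hy)).symm)
  have hctx : Ctx A M := ⟨hPair, hMC, hndQ⟩
  obtain ⟨e, he⟩ := Huppert.exists_sq hPair
  rw [hndQ M inferInstance hPair.le le_rfl] at he
  have he0 : 1 ≤ e := Nat.pos_of_ne_zero fun h => by
    subst h; exact Subgroup.index_ne_zero_of_finite (H := A.subgroupOf M) he
  have heb : e ≤ b := Nat.mul_self_le_mul_self_iff.mp (he ▸ hbound M hMC hPair.comm hnd)
  have hbD : b ≤ D := hab ▸ Nat.le_mul_of_pos_left b ha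
  have hra : 0 < r ^ a - 1 := by
    have := Nat.one_lt_pow ha.ne' (Fact.out : r.Prime).one_lt
    omega
  have hAle : Nat.card A ≤ r ^ a - 1 := Nat.le_of_dvd hra hAdvd
  refine ⟨a, b, e, ha, hab, he0, heb, fun hr2 he2 => ?_, M, hMn, ?_, ?_, ?_⟩
  · by_contra hlt
    obtain rfl : a = 1 := by omega
    subst hr2
    obtain ⟨q, hq, hqd⟩ := Nat.exists_prime_and_dvd (show A.relIndex M ≠ 1 by rw [he]; nlinarith)
    have := (Huppert.dvd_card_of_dvd_index hPair hnd hq hqd).trans hAdvd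
    norm_num at this
    exact hq.one_lt.ne' this
  · refine (hcc_le_card M).trans ?_
    have h3 := (A.subgroupOf M).card_mul_index
    rw [Nat.card_congr (Subgroup.subgroupOfEquivOfLe hPair.le).toEquiv] at h3
    rw [← h3]
    exact Nat.mul_le_mul hAle (le_of_eq he)
  · set C := Subgroup.centralizer (A : Set L)
    have hCn : C.Normal := inferInstance
    set π := QuotientGroup.mk' M
    haveI : (C.map π).Normal := hCn.map π (QuotientGroup.mk'_surjective M)
    have h1 := hcc_le_index_mul (C.map π)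
    have h2 : hcc (C.map π) ≤ hcc (C.map (secHom A M)) := by
      refine hcc_map_le_of_ker C π (secHom A M) fun k hk h => ?_
      exact (QuotientGroup.eq_one_iff k).mpr (hK k hk ((secHom_eq_one_iff A M k).mp h))
    have h3 := hsec L A M hctx M hPair.le le_rfl e he (heb.trans hbD) C hCn le_rfl
    have h4 : (C.map π).index ≤ a := by
      rw [C.index_map_eq (QuotientGroup.mk'_surjective M) (by rw [QuotientGroup.ker_mk']; exact hMC)]
      exact Nat.le_of_dvd ha hidx
    calc hcc (L ⧸ M) * 3 ≤ hcc (C.map (secHom A M)) * a * 3 :=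
          Nat.mul_le_mul_right _ (h1.trans (Nat.mul_le_mul h2 h4))
      _ = a * (hcc (C.map (secHom A M)) * 3) := by ring
      _ ≤ _ := Nat.mul_le_mul_left _ h3
  · intro v hv x hx hxv y hy hyv
    have h1 : x * y * x⁻¹ * y⁻¹ = 1 := by
      refine hreg _ (hPair.comm x hx y hy) v hv ?_
      have hinv : ∀ z : L, ρ z v = v → ρ z⁻¹ v = v := fun z hz => by
        conv_lhs => rw [← hz]
        rw [← LinearEquiv.mul_apply, ← map_mul, inv_mul_cancel, map_one]; rfl
      simp only [map_mul, LinearEquiv.mul_apply, hinv x hxv, hinv y hyv, hxv, hyv]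
    exact mul_inv_eq_iff_eq_mul.mp (mul_inv_eq_one.mp h1)

theorem sq_le_pow {e : ℕ} (he : 3 ≤ e) : e * e ≤ 3 ^ (e - 1) := by
  induction e, he using Nat.le_induction with
  | base => norm_num
  | succ e he ih =>
    rw [show e + 1 - 1 = e - 1 + 1 by omega, pow_succ]
    nlinarith

theorem le_three_pow {a : ℕ} (ha : 1 ≤ a) : a ≤ 3 ^ (a - 1) := by
  induction a, ha using Nat.le_induction with
  | base => norm_num
  | succ a ha ih => rw [show a + 1 - 1 = a - 1 + 1 by omega, pow_succ]; omega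

theorem numeric_two {a b e : ℕ} (ha : 0 < a) (he : 1 ≤ e) (heb : e ≤ b) (he2 : 2 ≤ e → 2 ≤ a) (hD : a * b ≠ 2) :
    (2 ^ a - 1) * (e * e) * (a * 3 ^ e) ≤ 4 ^ (a * b) := by
  rcases (by omega : e = 1 ∨ e = 2 ∨ 3 ≤ e) with rfl | rfl | he3
  · by_cases h2 : a = 2
    · subst h2
      have : 2 ≤ b := by omega
      exact le_trans (by norm_num) (Nat.pow_le_pow_right (by norm_num) (show 4 ≤ 2 * b by omega))
    · refine le_trans ?_ (Nat.pow_le_pow_right (by norm_num) (Nat.le_mul_of_pos_right a (by omega)))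
      rcases (by omega : a = 1 ∨ a = 3 ∨ 4 ≤ a) with rfl | rfl | h4
      · norm_num
      · norm_num
      · have h3 : 3 * a ≤ 2 ^ a := by
          clear h2 hD he2
          induction a, h4 using Nat.le_induction with
          | base => norm_num
          | succ a h ih => rw [pow_succ]; have := ih (by omega); omega
        rw [show (4 : ℕ) = 2 * 2 from rfl, mul_pow]
        refine Nat.mul_le_mul ?_ (by omega)
        omega
  · have ha2 := he2 le_rfl
    refine le_trans ?_ (Nat.pow_le_pow_right (by norm_num) (Nat.mul_le_mul_left a heb))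
    rw [show (4 : ℕ) ^ (a * 2) = 2 ^ a * 2 ^ a * (2 ^ a * 2 ^ a) by
      rw [← pow_add, ← pow_add, show (4 : ℕ) = 2 ^ 2 from rfl, ← pow_mul]
      congr 1; ring]
    have h : 36 * a * (2 ^ a - 1) ≤ 2 ^ a * 2 ^ a * (2 ^ a * 2 ^ a) := by
      rcases (by omega : a = 2 ∨ 3 ≤ a) with rfl | h3
      · norm_num
      · have h36 : 36 * a ≤ 2 ^ a * (2 ^ a * 2 ^ a) := by
          clear hD ha2 he2 heb
          induction a, h3 using Nat.le_induction with
          | base => norm_num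
          | succ a h ih => rw [pow_succ]; nlinarith [ih (by omega)]
        calc 36 * a * (2 ^ a - 1) ≤ (2 ^ a * (2 ^ a * 2 ^ a)) * 2 ^ a := Nat.mul_le_mul h36 (Nat.sub_le _ _)
          _ = _ := by ring
    refine le_trans (le_of_eq ?_) h
    ring
  · have ha2 := he2 (by omega)
    refine le_trans ?_ (Nat.pow_le_pow_right (by norm_num) (Nat.mul_le_mul_left a heb))
    have hsq : e * e ≤ 3 ^ (e - 1) := sq_le_pow he3
    have h2a : a ≤ 2 ^ a := (Nat.lt_pow_self (by norm_num)).le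
    calc (2 ^ a - 1) * (e * e) * (a * 3 ^ e) ≤ 2 ^ a * 3 ^ (e - 1) * (2 ^ a * 3 ^ e) := by
          gcongr; exact Nat.sub_le _ _
      _ = 4 ^ a * 3 ^ (e - 1 + e) := by
          rw [pow_add, show (4 : ℕ) = 2 * 2 from rfl, mul_pow]; ring
      _ ≤ 4 ^ a * 4 ^ (2 * (e - 1)) := Nat.mul_le_mul_left _ (by
          clear hD heb he2 hsq
          induction e, he3 using Nat.le_induction with
          | base => norm_num
          | succ m hm ih =>
            rw [show m + 1 - 1 + (m + 1) = (m - 1 + m) + 2 by omega,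
              show 2 * (m + 1 - 1) = 2 * (m - 1) + 2 by omega, pow_add, pow_add 4]
            exact Nat.mul_le_mul (ih (by omega)) (by norm_num))
      _ = 4 ^ (a + 2 * (e - 1)) := (pow_add _ _ _).symm
      _ ≤ _ := Nat.pow_le_pow_right (by norm_num) (by
          obtain ⟨f, rfl⟩ : ∃ f, e = f + 1 := ⟨e - 1, by omega⟩
          rw [show f + 1 - 1 = f by omega]
          have := Nat.mul_le_mul_right f ha2
          rw [mul_add, mul_one]
          omega)

theorem numeric_odd {r a b e : ℕ} (hr : 3 ≤ r) (ha : 0 < a) (he : 1 ≤ e) (heb : e ≤ b) :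
    (r ^ a - 1) * (e * e) * (a * 3 ^ e) ≤ (3 * r) ^ (a * b) := by
  refine le_trans ?_ (Nat.pow_le_pow_right (by omega) (Nat.mul_le_mul_left a heb))
  by_cases h12 : a = 1 ∧ e = 2
  · obtain ⟨rfl, rfl⟩ := h12
    obtain ⟨s, rfl⟩ : ∃ s, r = s + 3 := ⟨r - 3, by omega⟩
    rw [pow_one, show s + 3 - 1 = s + 2 by omega]
    ring_nf
    nlinarith
  obtain ⟨f, rfl⟩ : ∃ f, e = f + 1 := ⟨e - 1, by omega⟩
  obtain ⟨c, rfl⟩ : ∃ c, a = c + 1 := ⟨a - 1, by omega⟩
  have h3a : c + 1 ≤ 3 ^ c := by simpa using le_three_pow (show 1 ≤ c + 1 by omega)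
  have hsq : (f + 1) * (f + 1) ≤ 3 ^ (f * (2 * c + 1)) := by
    rcases (by omega : f = 0 ∨ f = 1 ∨ 2 ≤ f) with rfl | rfl | hf
    · norm_num
    · have : 1 ≤ c := by by_contra h; exact h12 ⟨by omega, rfl⟩
      exact le_trans (by norm_num) (Nat.pow_le_pow_right (by norm_num) (show 3 ≤ 1 * (2 * c + 1) by omega))
    · refine (sq_le_pow (show 3 ≤ f + 1 by omega)).trans (Nat.pow_le_pow_right (by norm_num) ?_)
      have : f * 1 ≤ f * (2 * c + 1) := Nat.mul_le_mul_left f (by omega)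
      omega
  calc (r ^ (c + 1) - 1) * ((f + 1) * (f + 1)) * ((c + 1) * 3 ^ (f + 1))
      ≤ r ^ (c + 1) * 3 ^ (f * (2 * c + 1)) * (3 ^ c * 3 ^ (f + 1)) := by gcongr; exact Nat.sub_le _ _
    _ = r ^ (c + 1) * 3 ^ ((c + 1) * f) * 3 ^ ((c + 1) * (f + 1)) := by
        rw [mul_assoc, mul_assoc, ← pow_add, ← pow_add, ← pow_add]; congr 2; ring
    _ ≤ r ^ (c + 1) * r ^ ((c + 1) * f) * 3 ^ ((c + 1) * (f + 1)) := by gcongr
    _ = _ := by rw [← pow_add, mul_pow, mul_comm]; congr 2; ring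

/-- The recursion. -/
theorem all_bounds : ∀ N : ℕ, PermBound.{u} N ∧ SecBound.{u} N ∧
    ∀ (r : ℕ) [Fact r.Prime], 0 < N → (ccW.{u} r).Bound N := by
  intro N
  induction N using Nat.strong_induction_on with
  | _ N IH =>
    have hB : ∀ (r : ℕ) [Fact r.Prime] (D : ℕ), 0 < D → D < N → (ccW.{u} r).Bound D :=
      fun r _ D hD hDN => (IH D hDN).2.2 r hD
    have hE := permBound_step N (fun m hm => (IH m hm).1) hB
    have hL := secBound_step N (fun m hm => (IH m hm).2.1) hB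
    refine ⟨hE, hL, fun r hr hN => (ccW.{u} r).bound_of_irred hN (fun D' h h' => hB r D' h' h) ?_⟩
    intro L V _ _ _ _ _ ρ hρ hP hD hirr
    haveI : Nontrivial V := Module.nontrivial_of_finrank_pos (R := ZMod r) (hD ▸ hN)
    by_cases hblock : Nonempty (Blocks ρ)
    · obtain ⟨b⟩ := hblock
      exact (ccW.{u} r).imprimitive (fun D' h h' => hB r D' h' h) hE ρ hρ hP hD b
    show hcc L * 3 ≤ cst r ^ N
    haveI := hP.1
    by_cases h22 : r = 2 ∧ N = 2
    · obtain ⟨rfl, rfl⟩ := h22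
      exact (Nat.mul_le_mul_right _ (hcc_le_three_of_two ρ hρ hD.le)).trans (by norm_num [cst])
    obtain ⟨a, b, e, ha, hab, he, heb, he2, M, hM, hM1, hM2, -⟩ := exists_structure hL ρ hρ hD hirr hblock
    haveI := hM
    calc hcc L * 3 ≤ hcc M * hcc (L ⧸ M) * 3 := Nat.mul_le_mul_right _ (hcc_le_quot M)
      _ = hcc M * (hcc (L ⧸ M) * 3) := mul_assoc _ _ _
      _ ≤ (r ^ a - 1) * (e * e) * (a * 3 ^ e) := Nat.mul_le_mul hM1 hM2
      _ ≤ _ := ?_
    rw [← hab]
    by_cases h2 : r = 2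
    · subst h2
      exact numeric_two ha he heb (he2 rfl) (fun h => h22 ⟨rfl, hab ▸ h⟩)
    · rw [cst, if_neg h2]
      exact numeric_odd (by have := hr.out.two_le; omega) ha he heb

/-- Solvable permutation groups. -/
theorem permBound (N : ℕ) : PermBound.{u} N := (all_bounds N).1

/-- The sections. -/
theorem secBound (N : ℕ) : SecBound.{u} N := (all_bounds N).2.1

end Cfsg.Agent.SolvBlockBound
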