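import Cfsg.Agent.Lib.SolvBlockBound.Recursion
import Cfsg.Agent.S4958
import Mathlib.GroupTheory.SemidirectProduct

/-! Class numbers of coprime semidirect products of vector spaces with solvable groups. -/

set_option autoImplicit false
set_option linter.style.haveILetI false

namespace Cfsg.Agent.SolvBlockBound

universe u

variable {p : ℕ} [Fact p.Prime] {L V : Type u} [Group L] [AddCommGroup V] [Module (ZMod p) V]

/-- The action on the multiplicative copy. -/
def phiOf (ρ : L →* (V ≃ₗ[ZMod p] V)) : L →* MulAut (Multiplicative V) where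
  toFun g := AddEquiv.toMultiplicative (ρ g).toAddEquiv
  map_one' := by ext x; simp
  map_mul' g h := by ext x; simp

theorem phiOf_apply (ρ : L →* (V ≃ₗ[ZMod p] V)) (g : L) (x : Multiplicative V) :
    phiOf ρ g x = Multiplicative.ofAdd (ρ g x.toAdd) := rfl

/-- The semidirect product. -/
abbrev Sdp (ρ : L →* (V ≃ₗ[ZMod p] V)) := SemidirectProduct (Multiplicative V) L (phiOf ρ)

instance finite_sdp (ρ : L →* (V ≃ₗ[ZMod p] V)) [Finite L] [Finite V] : Finite (Sdp ρ) :=
  Finite.of_equiv _ SemidirectProduct.equivProd.symm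

theorem sdp_split [Finite L] [Finite V] (ρ : L →* (V ≃ₗ[ZMod p] V)) (W : Submodule (ZMod p) V) (h : Inv ρ W) :
    cc (Sdp ρ) ≤ cc (Sdp ((restr ρ W h).comp (quot ρ W h).ker.subtype)) * cc (Sdp (quot ρ W h).range.subtype) := by
  haveI : Finite (V ⧸ W) := Finite.of_surjective _ W.mkQ_surjective
  set q := quot ρ W h
  let f : Sdp ρ →* Sdp q.range.subtype :=
    SemidirectProduct.map (AddMonoidHom.toMultiplicative W.mkQ.toAddMonoidHom) q.rangeRestrict
      fun g => MonoidHom.ext fun x => rfl
  let ι : Sdp ((restr ρ W h).comp q.ker.subtype) →* Sdp ρ :=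
    SemidirectProduct.map (AddMonoidHom.toMultiplicative W.subtype.toAddMonoidHom) q.ker.subtype
      fun g => MonoidHom.ext fun x => rfl
  refine cc_le_of_exact ι ?_ f ?_ ?_
  · intro x y hxy
    refine SemidirectProduct.ext ?_ ?_
    · exact Subtype.ext (congrArg (fun z : Sdp ρ => z.left.toAdd) hxy)
    · exact Subtype.ext (congrArg (fun z : Sdp ρ => z.right) hxy)
  · intro y
    obtain ⟨v, hv⟩ := W.mkQ_surjective y.left.toAdd
    obtain ⟨g, hg⟩ := q.rangeRestrict_surjective y.right
    exact ⟨⟨Multiplicative.ofAdd v, g⟩, SemidirectProduct.ext hv hg⟩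
  · ext x
    constructor
    · rintro ⟨z, rfl⟩
      refine SemidirectProduct.ext ?_ ?_
      · exact (Submodule.Quotient.mk_eq_zero W).mpr z.left.toAdd.2
      · exact Subtype.ext z.right.2
    · intro hx
      have h1 : x.left.toAdd ∈ W :=
        (Submodule.Quotient.mk_eq_zero W).mp (congrArg (fun z : Sdp q.range.subtype => z.left.toAdd) hx)
      have h2 : x.right ∈ q.ker := congrArg Subtype.val (congrArg (fun z : Sdp q.range.subtype => z.right) hx)
      exact ⟨⟨Multiplicative.ofAdd ⟨x.left.toAdd, h1⟩, ⟨x.right, h2⟩⟩, rfl⟩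

theorem sdp_ext [Finite L] [Finite V] (ρ : L →* (V ≃ₗ[ZMod p] V)) (B : Subgroup L) [B.Normal] :
    cc (Sdp ρ) ≤ cc (Sdp (ρ.comp B.subtype)) * cc (L ⧸ B) := by
  let f : Sdp ρ →* L ⧸ B := (QuotientGroup.mk' B).comp SemidirectProduct.rightHom
  let ι : Sdp (ρ.comp B.subtype) →* Sdp ρ :=
    SemidirectProduct.map (MonoidHom.id _) B.subtype fun g => MonoidHom.ext fun x => rfl
  refine cc_le_of_exact ι ?_ f ?_ ?_
  · intro x y hxy
    refine SemidirectProduct.ext ?_ ?_
    · exact congrArg (fun z : Sdp ρ => z.left) hxy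
    · exact Subtype.ext (congrArg (fun z : Sdp ρ => z.right) hxy)
  · exact (QuotientGroup.mk'_surjective B).comp SemidirectProduct.rightHom_surjective
  · ext x
    constructor
    · rintro ⟨z, rfl⟩
      exact (QuotientGroup.eq_one_iff _).mpr z.right.2
    · intro hx
      exact ⟨⟨x.left, ⟨x.right, (QuotientGroup.eq_one_iff _).mp hx⟩⟩, rfl⟩

/-- `k(V ⋊ L)`. -/
noncomputable def kvW (p : ℕ) [Fact p.Prime] : Weight.{u} p where
  C := 3 * p
  P := fun L _ => Group.IsSolvable L ∧ ¬ p ∣ Nat.card L
  val := fun ρ => cc (Sdp ρ)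
  solv := fun _ _ _ h => h.1
  noR := fun L _ _ h => by
    obtain ⟨k, hk⟩ := IsPGroup.iff_card.mp (Cores.isPGroup_pCore p L)
    rcases k with _ | k
    · exact Subgroup.card_eq_one.mp (hk.trans (pow_zero p))
    · exact absurd (((dvd_pow_self p (Nat.succ_ne_zero k)).trans (dvd_of_eq hk.symm)).trans
        (Subgroup.card_subgroup_dvd_card _)) h.2
  normal := fun L _ _ h B _ => by
    haveI := h.1
    exact ⟨inferInstance, fun hd => h.2 (hd.trans (Subgroup.card_subgroup_dvd_card B))⟩
  image := fun σ h _ => by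
    haveI := h.1
    exact ⟨Group.isSolvable_of_surjective (f := σ.rangeRestrict) σ.rangeRestrict_surjective,
      fun hd => h.2 (hd.trans (Subgroup.card_range_dvd σ))⟩
  split := fun ρ W h _ _ => sdp_split ρ W h
  ext := fun ρ B _ _ _ => (sdp_ext ρ B).trans (Nat.mul_le_mul_left _ (cc_le_hcc _))

/-- Abelian stabilisers give at most `|V|` classes. -/
theorem sdp_le_card [Finite L] [Finite V] [Nontrivial V] (ρ : L →* (V ≃ₗ[ZMod p] V)) (hρ : Function.Injective ρ)
    (hcop : ¬ p ∣ Nat.card L)
    (hab : ∀ v : V, v ≠ 0 → ∀ x, ρ x v = v → ∀ y, ρ y v = v → x * y = y * x) :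
    cc (Sdp ρ) ≤ Nat.card V := by
  classical
  obtain ⟨v, hv⟩ := exists_ne (0 : V)
  set V' : Subgroup (Sdp ρ) := (SemidirectProduct.inl : Multiplicative V →* (Sdp ρ)).range
  set G' : Subgroup (Sdp ρ) := (SemidirectProduct.inr : L →* (Sdp ρ)).range
  haveI : V'.Normal := by
    rw [show V' = (SemidirectProduct.rightHom : (Sdp ρ) →* L).ker from SemidirectProduct.range_inl_eq_ker_rightHom]
    infer_instance
  have hcomp : Subgroup.IsComplement' V' G' := by
    refine Subgroup.isComplement'_of_disjoint_and_mul_eq_univ ?_ ?_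
    · rw [Subgroup.disjoint_def]
      rintro x ⟨a, rfl⟩ ⟨b, hb⟩
      have := congrArg SemidirectProduct.right hb
      simp only [SemidirectProduct.right_inr, SemidirectProduct.right_inl] at this
      rw [← hb, this, map_one]
    · refine Set.eq_univ_of_forall fun x => ⟨_, ⟨x.left, rfl⟩, _, ⟨x.right, rfl⟩, ?_⟩
      exact SemidirectProduct.inl_left_mul_inr_right x
  have hidx : V'.index = Nat.card L := by
    rw [hcomp.symm.index_eq_card]
    exact (Nat.card_congr (MonoidHom.ofInjective SemidirectProduct.inr_injective).toEquiv).symm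
  have hmem : (SemidirectProduct.inl (Multiplicative.ofAdd v) : (Sdp ρ)) ∈ V' := ⟨_, rfl⟩
  have h := S4958.result p V' ?_ (hidx ▸ hcop) ?_ G' hcomp _ hmem ?_
  · refine h.trans_eq ?_
    rw [← Nat.card_congr (MonoidHom.ofInjective (SemidirectProduct.inl_injective
      (φ := phiOf ρ))).toEquiv]
    exact Nat.card_congr Multiplicative.toAdd
  · rintro _ ⟨w, rfl⟩
    rw [← map_pow, ← map_one (SemidirectProduct.inl : Multiplicative V →* (Sdp ρ))]
    congr 1
    apply Multiplicative.toAdd.injective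
    rw [toAdd_pow, toAdd_one, ← Nat.cast_smul_eq_nsmul (ZMod p), ZMod.natCast_self, zero_smul]
  · refine le_antisymm (fun x hx => ?_) ?_
    · rw [show V' = (SemidirectProduct.rightHom : (Sdp ρ) →* L).ker from SemidirectProduct.range_inl_eq_ker_rightHom,
        MonoidHom.mem_ker]
      refine hρ (LinearEquiv.ext fun w => ?_)
      have := congrArg SemidirectProduct.left
        (Subgroup.mem_centralizer_iff.mp hx _ ⟨Multiplicative.ofAdd w, rfl⟩)
      simp only [SemidirectProduct.mul_left, SemidirectProduct.left_inl, SemidirectProduct.right_inl, map_one,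
        MulAut.one_apply, phiOf_apply, toAdd_ofAdd] at this
      rw [mul_comm x.left] at this
      rw [map_one]
      exact (Multiplicative.ofAdd.injective (mul_right_cancel this)).symm
    · rintro _ ⟨w, rfl⟩
      rw [Subgroup.mem_centralizer_iff]
      rintro _ ⟨w', rfl⟩
      rw [← map_mul, ← map_mul, mul_comm]
  · intro a ha b hb
    obtain ⟨x, rfl⟩ := ha.1
    obtain ⟨y, rfl⟩ := hb.1
    have hfix : ∀ z : L, (SemidirectProduct.inr z : (Sdp ρ)) ∈
        Subgroup.centralizer ({(SemidirectProduct.inl (Multiplicative.ofAdd v) : (Sdp ρ))} : Set (Sdp ρ)) → ρ z v = v := by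
      intro z hz
      have := congrArg SemidirectProduct.left (Subgroup.mem_centralizer_singleton_iff.mp hz)
      simpa [phiOf_apply] using this
    rw [← map_mul, ← map_mul, hab v hv x (hfix x ha.2) y (hfix y hb.2)]

/-- The recursion. -/
theorem kv_bound : ∀ D : ℕ, 0 < D → (kvW.{u} p).Bound D := by
  intro D
  induction D using Nat.strong_induction_on with
  | _ D IH =>
    intro hD0
    refine (kvW.{u} p).bound_of_irred hD0 (fun D' h h' => IH D' h h') ?_
    intro L V _ _ _ _ _ ρ hρ hP hD hirr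
    haveI : Nontrivial V := Module.nontrivial_of_finrank_pos (R := ZMod p) (hD ▸ hD0)
    by_cases hblock : Nonempty (Blocks ρ)
    · obtain ⟨b⟩ := hblock
      exact (kvW.{u} p).imprimitive (fun D' h h' => IH D' h h') (permBound D) ρ hρ hP hD b
    show cc (Sdp ρ) * 3 ≤ (3 * p) ^ D
    haveI := hP.1
    obtain ⟨a, b, e, ha, hab, -, heb, -, M, hM, -, hM2, hstab⟩ :=
      exists_structure (secBound D) ρ hρ hD hirr hblock
    haveI := hM
    have h1 : cc (Sdp (ρ.comp M.subtype)) ≤ Nat.card V := by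
      refine sdp_le_card _ (hρ.comp Subtype.val_injective) (fun hd => hP.2 (hd.trans (Subgroup.card_subgroup_dvd_card M)))
        fun v hv x hx y hy => Subtype.ext (hstab v hv x x.2 hx y y.2 hy)
    calc cc (Sdp ρ) * 3 ≤ cc (Sdp (ρ.comp M.subtype)) * cc (L ⧸ M) * 3 := Nat.mul_le_mul_right _ (sdp_ext ρ M)
      _ = cc (Sdp (ρ.comp M.subtype)) * (cc (L ⧸ M) * 3) := mul_assoc _ _ _
      _ ≤ Nat.card V * (a * 3 ^ e) := Nat.mul_le_mul h1 ((Nat.mul_le_mul_right _ (cc_le_hcc _)).trans hM2)
      _ ≤ p ^ D * 3 ^ D := by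
        rw [Module.natCard_eq_pow_finrank (K := ZMod p) (V := V), Nat.card_zmod, hD]
        refine Nat.mul_le_mul_left _ ?_
        calc a * 3 ^ e ≤ 3 ^ (a - 1) * 3 ^ b := Nat.mul_le_mul (le_three_pow ha)
              (Nat.pow_le_pow_right (by norm_num) heb)
          _ = 3 ^ (a - 1 + b) := (pow_add _ _ _).symm
          _ ≤ _ := Nat.pow_le_pow_right (by norm_num) (by
            obtain ⟨c, rfl⟩ : ∃ c, a = c + 1 := ⟨a - 1, by omega⟩
            rw [Nat.add_sub_cancel, ← hab, add_mul, one_mul]
            have : c ≤ c * b := Nat.le_mul_of_pos_right c (Nat.pos_of_ne_zero fun h => by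
              subst h; rw [mul_zero] at hab; omega)
            omega)
      _ = _ := by rw [← mul_pow, mul_comm]

end Cfsg.Agent.SolvBlockBound
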