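import Cfsg.Agent.Lib.SolvBlockBound.Elementary
import Cfsg.Agent.Lib.SolvBlockBound.Field
import Cfsg.Agent.Lib.SolvBlockBound.Small
import Cfsg.Agent.Lib.Huppert.Main

/-! Four dimensions over the field of two elements. -/

set_option autoImplicit false
set_option linter.style.haveILetI false

namespace Cfsg.Agent.SolvBlockBound

universe u

variable {L V : Type u} [Group L] [Finite L] [AddCommGroup V] [Module (ZMod 2) V] [Finite V]

/-- A linear group on at most four vectors. -/
theorem cc_le_three_of_two (ρ : L →* (V ≃ₗ[ZMod 2] V)) (hρ : Function.Injective ρ)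
    (h : Module.finrank (ZMod 2) V ≤ 2) : cc L ≤ 3 := by
  classical
  let X := {v : V // v ≠ 0}
  let f : L →* Equiv.Perm X :=
    { toFun := fun g => (ρ g).toEquiv.subtypeEquiv fun v => not_congr (LinearEquiv.map_eq_zero_iff (ρ g)).symm
      map_one' := by ext v; simp
      map_mul' := fun g k => by ext v; simp }
  refine cc_le_three ?_ f fun g k hgk => hρ (LinearEquiv.ext fun v => ?_)
  · haveI := Fintype.ofFinite V
    have hV : Nat.card V ≤ 4 := by
      rw [Module.natCard_eq_pow_finrank (K := ZMod 2) (V := V), Nat.card_zmod]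
      exact Nat.pow_le_pow_right (by norm_num) h
    rw [Nat.card_eq_fintype_card, Fintype.card_subtype_compl, Fintype.card_subtype_eq, ← Nat.card_eq_fintype_card]
    omega
  · by_cases hv : v = 0
    · rw [hv, map_zero, map_zero]
    · exact congrArg Subtype.val (Equiv.ext_iff.mp hgk ⟨v, hv⟩)

theorem hcc_le_three_of_two (ρ : L →* (V ≃ₗ[ZMod 2] V)) (hρ : Function.Injective ρ)
    (h : Module.finrank (ZMod 2) V ≤ 2) : hcc L ≤ 3 :=
  hcc_le fun S => cc_le_three_of_two (ρ.comp S.subtype) (hρ.comp Subtype.val_injective) h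

/-- The permutation action on the parts of a decomposition. -/
noncomputable def Blocks.toPerm {r : ℕ} [Fact r.Prime] {L V : Type u} [Group L] [AddCommGroup V] [Module (ZMod r) V]
    {ρ : L →* (V ≃ₗ[ZMod r] V)} (b : Blocks ρ) : L →* Equiv.Perm (ULift.{u} (Fin b.t)) := by
  classical
  have hinj : Function.Injective b.part := b.indep.injective b.ne_bot
  refine MonoidHom.toHomPerm
    { toFun := fun g i => ⟨(b.perm g i.down).choose⟩
      map_one' := funext fun i => ULift.ext _ _ (hinj ?_)
      map_mul' := fun g k => funext fun i => ULift.ext _ _ (hinj ?_) }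
  · rw [← (b.perm 1 i.down).choose_spec, map_one]
    exact Submodule.map_id _
  · show b.part (b.perm (g * k) i.down).choose = b.part (b.perm g (b.perm k i.down).choose).choose
    rw [← (b.perm g _).choose_spec, ← (b.perm k i.down).choose_spec, ← (b.perm (g * k) i.down).choose_spec,
      ← Submodule.map_comp, map_mul]
    rfl

theorem Blocks.toPerm_spec {r : ℕ} [Fact r.Prime] {L V : Type u} [Group L] [AddCommGroup V] [Module (ZMod r) V]
    {ρ : L →* (V ≃ₗ[ZMod r] V)} (b : Blocks ρ) (g : L) (i : ULift.{u} (Fin b.t)) :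
    (b.part i.down).map (ρ g).toLinearMap = b.part (b.toPerm g i).down :=
  (b.perm g i.down).choose_spec

/-- The kernel on the parts stabilises each of them. -/
theorem Blocks.inv_part {r : ℕ} [Fact r.Prime] {L V : Type u} [Group L] [AddCommGroup V] [Module (ZMod r) V]
    {ρ : L →* (V ≃ₗ[ZMod r] V)} (b : Blocks ρ) (i : Fin b.t) :
    Inv (ρ.comp b.toPerm.ker.subtype) (b.part i) := fun g v hv => by
  have h := b.toPerm_spec (g : L) ⟨i⟩
  rw [show b.toPerm (g : L) = 1 from g.2, Equiv.Perm.one_apply] at h
  exact h.le ⟨v, hv, rfl⟩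

/-- The kernel on the parts has a chain of length `t`. -/
theorem Blocks.chain {r : ℕ} [Fact r.Prime] {L V : Type u} [Group L] [AddCommGroup V] [Module (ZMod r) V]
    {ρ : L →* (V ≃ₗ[ZMod r] V)} (b : Blocks ρ) : Chain (ρ.comp b.toPerm.ker.subtype) b.t := by
  refine ⟨fun n => ⨆ j : {j : Fin b.t // (j : ℕ) < n}, b.part j, fun n _ g v hv => ?_, fun n hn => ?_⟩
  · have hle : (⨆ j : {j : Fin b.t // (j : ℕ) < n}, b.part j) ≤
        Submodule.comap ((ρ.comp b.toPerm.ker.subtype) g).toLinearMap (⨆ j : {j : Fin b.t // (j : ℕ) < n}, b.part j) :=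
      iSup_le fun j w hw => Submodule.mem_iSup_of_mem j (b.inv_part j g w hw)
    exact hle hv
  · refine lt_of_le_of_ne (iSup_le fun j => le_iSup_of_le ⟨j, Nat.lt_succ_of_lt j.2⟩ le_rfl) fun e => ?_
    refine b.ne_bot ⟨n, hn⟩ (le_bot_iff.mp ?_)
    have h1 : b.part ⟨n, hn⟩ ≤ ⨆ j : {j : Fin b.t // (j : ℕ) < n + 1}, b.part j :=
      le_iSup_of_le ⟨⟨n, hn⟩, Nat.lt_succ_self n⟩ le_rfl
    rw [← (disjoint_iff.mp (b.indep ⟨n, hn⟩))]
    refine le_inf le_rfl ((h1.trans e.ge).trans (iSup_le fun j => ?_))
    exact le_iSup₂_of_le j.1 (fun h => absurd j.2 (by rw [h]; exact lt_irrefl n)) le_rfl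

theorem Blocks.t_le {r : ℕ} [Fact r.Prime] {L V : Type u} [Group L] [AddCommGroup V] [Module (ZMod r) V]
    [Finite V] {ρ : L →* (V ≃ₗ[ZMod r] V)} (b : Blocks ρ) : b.t ≤ Module.finrank (ZMod r) V := by
  obtain ⟨U, -, hlt⟩ := b.chain
  have h : ∀ i ≤ b.t, i ≤ Module.finrank (ZMod r) (U i) := by
    intro i
    induction i with
    | zero => exact fun _ => Nat.zero_le _
    | succ i ih =>
      intro hi
      have := Submodule.finrank_lt_finrank_of_lt (hlt i (by omega))
      have := ih (by omega)
      omega
  exact (h _ le_rfl).trans (Submodule.finrank_le _)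

theorem Blocks.finrank_sum {r : ℕ} [Fact r.Prime] {L V : Type u} [Group L] [AddCommGroup V] [Module (ZMod r) V]
    [Finite V] {ρ : L →* (V ≃ₗ[ZMod r] V)} (b : Blocks ρ) :
    ∑ i, Module.finrank (ZMod r) (b.part i) = Module.finrank (ZMod r) V := by
  classical
  have h : DirectSum.IsInternal b.part :=
    (DirectSum.isInternal_submodule_iff_iSupIndep_and_iSup_eq_top b.part).mpr ⟨b.indep, b.sup⟩
  rw [← Module.finrank_directSum]
  exact (LinearEquiv.ofBijective (DirectSum.coeLinearMap b.part) h).finrank_eq

/-- A small bound in dimension at most three. -/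
theorem cc_small_two (hB : ∀ D, 0 < D → D < 4 → (ccW.{u} 2).Bound D) (ρ : L →* (V ≃ₗ[ZMod 2] V))
    (hρ : Function.Injective ρ) (hP : (ccW.{u} 2).P L) {D : ℕ} (hD : Module.finrank (ZMod 2) V = D) (h0 : 0 < D)
    (h4 : D < 4) : hcc L ≤ if D = 1 then 1 else if D = 2 then 3 else 21 := by
  haveI : Nontrivial V := Module.nontrivial_of_finrank_pos (R := ZMod 2) (hD ▸ h0)
  have := hB D h0 h4 L V ρ hρ hP hD 1 le_rfl (chain_one _)
  change hcc L * 3 ^ 1 ≤ (cst 2) ^ D at this
  interval_cases D
  · simp [cst] at this ⊢; omega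
  · simpa using hcc_le_three_of_two ρ hρ hD.le
  · simp [cst] at this ⊢; omega

/-- Four dimensions over the field of two elements. -/
theorem cc_two_four (hB : ∀ D, 0 < D → D < 4 → (ccW.{u} 2).Bound D) (ρ : L →* (V ≃ₗ[ZMod 2] V))
    (hρ : Function.Injective ρ) (hP : (ccW.{u} 2).P L) (hD : Module.finrank (ZMod 2) V = 4) : hcc L ≤ 27 := by
  classical
  haveI : Nontrivial V := Module.nontrivial_of_finrank_pos (R := ZMod 2) (by rw [hD]; norm_num)
  by_cases hirr : Irred ρ
  swap
  · obtain ⟨W, hW, hWb, hWt, hmax⟩ := exists_maximal_inv ρ hirr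
    haveI : Nontrivial W := Submodule.nontrivial_iff_ne_bot.mpr hWb
    haveI : Nontrivial (V ⧸ W) := Submodule.Quotient.nontrivial_iff.mpr hWt
    haveI : Finite (V ⧸ W) := Finite.of_surjective _ W.mkQ_surjective
    set K := (quot ρ W hW).ker
    have hKinj : Function.Injective ((restr ρ W hW).comp K.subtype) := by
      rw [← MonoidHom.ker_eq_bot_iff, Subgroup.eq_bot_iff_forall]
      intro k hk
      have : (k : L) ∈ (restr ρ W hW).ker ⊓ K := ⟨hk, k.2⟩
      rw [ker_inf_eq_bot hρ hP.2 W hW, Subgroup.mem_bot] at this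
      exact Subtype.ext this
    have hq := W.finrank_quotient_add_finrank
    rw [hD] at hq
    have hw0 : 0 < Module.finrank (ZMod 2) W := Module.finrank_pos
    have hq0 : 0 < Module.finrank (ZMod 2) (V ⧸ W) := Module.finrank_pos
    have h1 := cc_small_two hB ((restr ρ W hW).comp K.subtype) hKinj ((ccW 2).normal L hP K inferInstance) rfl
      hw0 (by omega)
    have h2 := cc_small_two hB (quot ρ W hW).range.subtype Subtype.val_injective
      ((ccW 2).image _ hP (quot_irred ρ W hW hmax)) rfl hq0 (by omega)
    refine (hcc_le_ker_range (quot ρ W hW)).trans ((Nat.mul_le_mul h1 h2).trans ?_)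
    rcases (by omega : Module.finrank (ZMod 2) W = 1 ∨ Module.finrank (ZMod 2) W = 2 ∨
      Module.finrank (ZMod 2) W = 3) with h | h | h <;>
    · rw [h, show Module.finrank (ZMod 2) (V ⧸ W) = 4 - Module.finrank (ZMod 2) W by omega, h]
      norm_num
  by_cases hblock : Nonempty (Blocks ρ)
  · obtain ⟨b⟩ := hblock
    have ht4 : b.t ≤ 4 := hD ▸ b.t_le
    set B := b.toPerm.ker
    set ρB := ρ.comp B.subtype
    have hρB : Function.Injective ρB := hρ.comp Subtype.val_injective
    have hPB : (ccW.{u} 2).P B := (ccW 2).normal L hP B inferInstance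
    have hred : ¬ Irred ρB := fun h => by
      have h0 : 0 < b.t := by have := b.two_le; omega
      rcases h _ (b.inv_part ⟨0, h0⟩) with e | e
      · exact b.ne_bot _ e
      · refine b.ne_bot ⟨1, b.two_le⟩ (le_bot_iff.mp ?_)
        rw [← disjoint_iff.mp (b.indep ⟨1, b.two_le⟩)]
        refine le_inf le_rfl (le_trans (le_trans le_top e.ge) ?_)
        exact le_iSup₂_of_le ⟨0, h0⟩ (by simp [Fin.ext_iff]) le_rfl
    have hchain := (ccW.{u} 2).reducible (D := 4) (fun D' h h' => hB D' h' h) ρB hρB hPB hD hred
      (by have := b.two_le; omega : 1 ≤ b.t) b.chain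
    change hcc B * 3 ^ b.t ≤ cst 2 ^ 4 at hchain
    refine (hcc_le_ker_range b.toPerm).trans ?_
    have hperm : hcc b.toPerm.range ≤ Nat.factorial b.t := by
      refine (hcc_le_card _).trans ((Subgroup.card_le_card_group _).trans_eq ?_)
      rw [Nat.card_perm, Nat.card_eq_fintype_card, Fintype.card_ulift, Fintype.card_fin]
    rcases (by have := b.two_le; omega : b.t = 2 ∨ b.t = 3 ∨ b.t = 4) with ht | ht | ht
    · -- two parts of dimension two
      replace hperm := hperm.trans_eq (congrArg Nat.factorial ht)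
      refine (Nat.mul_le_mul_left _ hperm).trans ?_
      have hsum : ∀ i : Fin b.t, Module.finrank (ZMod 2) (b.part i) ≤ 2 := by
        intro i
        obtain ⟨g, hg⟩ : ∃ g : L, b.toPerm g ≠ 1 := by
          by_contra hno
          push Not at hno
          apply hred
          intro U hU
          exact hirr U fun g v hv => hU ⟨g, hno g⟩ v hv
        have hmove : ∀ k : ULift.{u} (Fin b.t), b.toPerm g k ≠ k := by
          intro k hk
          refine hg (Equiv.ext fun l => ?_)
          by_contra hl
          simp only [Equiv.Perm.one_apply] at hl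
          have h3 : l ≠ k := fun e => hl (by rw [e]; exact hk)
          have h4 : b.toPerm g l ≠ k := fun e => h3 ((b.toPerm g).injective (e.trans hk.symm))
          have hv : ∀ x y : ULift.{u} (Fin b.t), x ≠ y → (x.down : ℕ) ≠ y.down := fun x y h e =>
            h (ULift.ext _ _ (Fin.ext e))
          have := hv _ _ h3; have := hv _ _ h4; have := hv _ _ hl
          have := l.down.2; have := k.down.2; have := (b.toPerm g l).down.2
          omega
        set j := (b.toPerm g ⟨i⟩).down
        have hij : j ≠ i := fun e => hmove ⟨i⟩ (ULift.ext _ _ e)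
        have he : Module.finrank (ZMod 2) (b.part j) = Module.finrank (ZMod 2) (b.part i) := by
          rw [← b.toPerm_spec g ⟨i⟩]
          exact LinearEquiv.finrank_map_eq (ρ g) _
        have hdis : Disjoint (b.part i) (b.part j) :=
          (b.indep i).mono_right (le_iSup₂_of_le j hij le_rfl)
        have := Submodule.finrank_sup_add_finrank_inf_eq (b.part i) (b.part j)
        rw [disjoint_iff.mp hdis, finrank_bot] at this
        have := Submodule.finrank_le (b.part i ⊔ b.part j)
        omega
      have h0t : 0 < b.t := by omega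
      have h1t : 1 < b.t := by omega
      let π₀ := restr ρB (b.part ⟨0, h0t⟩) (b.inv_part _)
      let π₁ := restr ρB (b.part ⟨1, h1t⟩) (b.inv_part _)
      have hk : Function.Injective (π₁.comp π₀.ker.subtype) := by
        rw [← MonoidHom.ker_eq_bot_iff, Subgroup.eq_bot_iff_forall]
        intro k hk
        refine Subtype.ext (hρB (LinearEquiv.ext fun v => ?_))
        show ρB k v = ρB 1 v
        rw [map_one, LinearEquiv.coe_one, id]
        have hle : (⊤ : Submodule (ZMod 2) V) ≤ LinearMap.eqLocus (ρB k).toLinearMap LinearMap.id := by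
          rw [← b.sup]
          refine iSup_le fun i w hw => ?_
          rcases (by omega : (i : ℕ) = 0 ∨ (i : ℕ) = 1) with hi | hi
          · obtain rfl : i = ⟨0, h0t⟩ := Fin.ext hi
            exact congrArg Subtype.val (LinearEquiv.congr_fun (k.2 : π₀ (k : B) = 1) ⟨w, hw⟩)
          · obtain rfl : i = ⟨1, h1t⟩ := Fin.ext hi
            exact congrArg Subtype.val (LinearEquiv.congr_fun (hk : π₁ (k : B) = 1) ⟨w, hw⟩)
        exact hle (Submodule.mem_top : v ∈ ⊤)
      have h9 : hcc B ≤ 9 := (hcc_le_ker_range π₀).trans (Nat.mul_le_mul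
        (hcc_le_three_of_two _ hk (hsum _)) (hcc_le_three_of_two π₀.range.subtype Subtype.val_injective (hsum _)))
      exact (Nat.mul_le_mul_right _ h9).trans (by decide)
    · rw [ht] at hchain
      simp [cst] at hchain
      have h3 : hcc b.toPerm.range ≤ 3 :=
        hcc_le fun S => cc_le_three (by rw [Nat.card_eq_fintype_card, Fintype.card_ulift, Fintype.card_fin, ht])
          (b.toPerm.range.subtype.comp S.subtype) (Subtype.val_injective.comp Subtype.val_injective)
      exact (Nat.mul_le_mul (show hcc B ≤ 9 by omega) h3).trans (by decide)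
    · replace hperm := hperm.trans_eq (congrArg Nat.factorial ht)
      have hone : ∀ i, Module.finrank (ZMod 2) (b.part i) = 1 := by
        have h1 : ∀ i ∈ Finset.univ, 1 ≤ Module.finrank (ZMod 2) (b.part i) := fun i _ =>
          Submodule.one_le_finrank_iff.mpr (b.ne_bot i)
        have h2 : ∑ _i : Fin b.t, 1 = ∑ i, Module.finrank (ZMod 2) (b.part i) := by
          rw [b.finrank_sum, hD]; simp [ht]
        exact fun i => ((Finset.sum_eq_sum_iff_of_le h1).mp h2 i (Finset.mem_univ i)).symm
      haveI : Subsingleton B := ⟨fun k l => hρB (LinearEquiv.ext fun v => by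
        have hle : (⊤ : Submodule (ZMod 2) V) ≤ LinearMap.eqLocus (ρB k).toLinearMap (ρB l).toLinearMap := by
          rw [← b.sup]
          refine iSup_le fun i w hw => ?_
          by_cases hw0 : w = 0
          · show ρB k w = ρB l w
            rw [hw0, map_zero, map_zero]
          obtain ⟨c, hc⟩ := exists_smul_eq_of_finrank_eq_one (hone i) (x := (⟨w, hw⟩ : b.part i))
            (fun e => hw0 (congrArg Subtype.val e)) ⟨_, b.inv_part i k w hw⟩
          obtain ⟨d, hd⟩ := exists_smul_eq_of_finrank_eq_one (hone i) (x := (⟨w, hw⟩ : b.part i))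
            (fun e => hw0 (congrArg Subtype.val e)) ⟨_, b.inv_part i l w hw⟩
          have h01 : ∀ z : ZMod 2, z = 0 ∨ z = 1 := by decide
          have hk : ρB k w = w := by
            have h' : c • w = ρB k w := congrArg Subtype.val hc
            rcases h01 c with rfl | rfl
            · rw [zero_smul] at h'; exact absurd ((LinearEquiv.map_eq_zero_iff _).mp h'.symm) hw0
            · rw [← h', one_smul]
          have hl : ρB l w = w := by
            have h' : d • w = ρB l w := congrArg Subtype.val hd
            rcases h01 d with rfl | rfl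
            · rw [zero_smul] at h'; exact absurd ((LinearEquiv.map_eq_zero_iff _).mp h'.symm) hw0
            · rw [← h', one_smul]
          show ρB k w = ρB l w
          rw [hk, hl]
        exact hle (Submodule.mem_top : v ∈ ⊤))⟩
      have h1 : hcc B ≤ 1 := (hcc_le_card B).trans (Finite.card_le_one_iff_subsingleton.mpr inferInstance)
      exact (Nat.mul_le_mul h1 (hperm.trans (show Nat.factorial 4 ≤ 27 by decide))).trans (by decide)
  -- primitive
  obtain ⟨A, -, hAmax⟩ := Finite.exists_le_maximal (α := Subgroup L)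
    (p := fun A => A.Normal ∧ ∀ x ∈ A, ∀ y ∈ A, x * y = y * x) (a := ⊥)
    ⟨inferInstance, fun x hx y hy => by rw [Subgroup.mem_bot.mp hx, Subgroup.mem_bot.mp hy]⟩
  obtain ⟨hAn, hA⟩ := hAmax.prop
  haveI := hAn
  haveI := hP.1
  have hns := (dichotomy ρ hirr A hA).resolve_right hblock
  obtain ⟨a, b, ha, hb, hab, hAdvd, hidx, hcyc, hbound, -, hfix⟩ := exists_field ρ hρ A hA hns
  haveI := hcyc
  rw [hD] at hab
  obtain ⟨M, hMn, hPair, hMC, hnd, -, -, hne⟩ := Huppert.exists_class_two A hA
    fun B hB hBc hAB => le_antisymm (hAmax.2 ⟨hB, hBc⟩ hAB) hAB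
  haveI := hMn
  set C := Subgroup.centralizer (A : Set L)
  have hAC : A ≤ C := fun x hx => Subgroup.mem_centralizer_iff.mpr fun y hy => hA y hy x hx
  have hCA : C = A := by
    by_contra hCA
    have hlt := hne hCA
    have hA0 : 0 < Nat.card A := Nat.card_pos
    have h2 : 2 ≤ A.relIndex M := by
      have := Subgroup.index_ne_zero_of_finite (H := A.subgroupOf M)
      by_contra h
      exact hlt.not_ge (Subgroup.relIndex_eq_one.mp (show A.relIndex M = 1 by
        change (A.subgroupOf M).index = 1; change ¬ 2 ≤ (A.subgroupOf M).index at h; omega))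
    obtain ⟨q, hq, hqd⟩ := Nat.exists_prime_and_dvd (show A.relIndex M ≠ 1 by omega)
    have hqA : q ∣ 2 ^ a - 1 := (Huppert.dvd_card_of_dvd_index hPair hnd hq hqd).trans hAdvd
    have hb2 : A.relIndex M ≤ b * b := hbound M hMC hPair.comm hnd
    obtain ⟨k, hk⟩ := Huppert.exists_sq hPair
    have e : M ⊓ Subgroup.centralizer (M : Set L) = A := le_antisymm
      (fun u hu => hnd u hu.1 fun v hv => (Subgroup.mem_centralizer_iff.mp hu.2 v hv).symm)
      (le_inf hPair.le fun a ha => Subgroup.mem_centralizer_iff.mpr fun v hv => (hPair.central a ha v hv).symm)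
    rw [e] at hk
    rcases (by
      have : a ∣ 4 := Dvd.intro b hab
      have := Nat.le_of_dvd (by norm_num) this
      interval_cases a <;> omega : a = 1 ∨ a = 2 ∧ b = 2 ∨ a = 4 ∧ b = 1) with h | ⟨h, h'⟩ | ⟨h, h'⟩
    · subst h
      norm_num at hqA
      exact hq.one_lt.ne' hqA
    · subst h h'
      norm_num at hqA
      have hk2 : k = 2 := by
        rcases k with _ | _ | _ | k <;> first | omega | nlinarith
      subst hk2
      rw [hk] at hqd
      have := (Nat.prime_dvd_prime_iff_eq hq Nat.prime_three).mp hqA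
      subst this
      norm_num at hqd
    · subst h'
      omega
  have hL : Nat.card L = Nat.card A * C.index := by rw [← C.card_mul_index, hCA]
  have hidxle : C.index ≤ a := Nat.le_of_dvd ha hidx
  rcases lt_or_ge a 4 with ha4 | ha4
  · refine (hcc_le_card L).trans ?_
    have : a ≤ 2 := by
      have : a ∣ 4 := Dvd.intro b hab
      interval_cases a <;> omega
    have h3 : Nat.card A ≤ 3 := by
      have := Nat.le_of_dvd (by have := Nat.one_lt_two_pow ha.ne'; omega) hAdvd
      interval_cases a <;> omega
    rw [hL]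
    calc Nat.card A * C.index ≤ 3 * 2 := Nat.mul_le_mul h3 (by omega)
      _ ≤ 27 := by norm_num
  · have ha4' : a = 4 := by
      have := Nat.le_of_dvd (by norm_num) (Dvd.intro b hab : a ∣ 4)
      omega
    subst ha4'
    have hA15 : Nat.card A ≤ 15 := Nat.le_of_dvd (by norm_num) hAdvd
    refine hcc_le fun S => ?_
    have hAS : Nat.card (A.subgroupOf S) ≤ Nat.card A :=
      Nat.card_le_card_of_injective (fun x => (⟨((x : S) : L), x.2⟩ : A))
        fun x y h => Subtype.ext (Subtype.ext (congrArg (fun z : A => (z : L)) h))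
    refine (cc_le_of_centralizers (A.subgroupOf S) (c := 12) fun x hx => ?_).trans (by omega)
    refine le_trans (Nat.card_le_card_of_injective
      (fun y => (⟨((y : S) : L), Subgroup.mem_centralizer_singleton_iff.mpr
        (congrArg Subtype.val (Subgroup.mem_centralizer_singleton_iff.mp y.2))⟩ :
          Subgroup.centralizer ({(x : L)} : Set L)))
      fun y z h => Subtype.ext (Subtype.ext (congrArg (fun w : Subgroup.centralizer ({(x : L)} : Set L) => (w : L)) h))) ?_
    have hg : (x : L) ∉ A := hx
    revert hg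
    generalize (x : L) = g
    intro hg
    obtain ⟨a', hd', hlt', hle⟩ := hfix g (fun h => hg (hCA.le h))
    have : a' ≤ 2 := by interval_cases a' <;> omega
    have h3 : Nat.card ↥(A ⊓ Subgroup.centralizer ({g} : Set L)) ≤ 3 := hle.trans (by
      have := Nat.pow_le_pow_right (show 1 ≤ 2 by norm_num) this
      omega)
    set Z := Subgroup.centralizer ({g} : Set L)
    rw [← (A.subgroupOf Z).card_mul_index, ← Subgroup.inf_subgroupOf_right,
      Nat.card_congr (Subgroup.subgroupOfEquivOfLe inf_le_right).toEquiv, Subgroup.inf_subgroupOf_right,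
      show (12 : ℕ) = 3 * 4 by norm_num]
    refine Nat.mul_le_mul h3 ((show A.relIndex Z ≤ C.index from ?_).trans hidxle)
    rw [hCA]
    exact Nat.le_of_dvd (Nat.pos_of_ne_zero Subgroup.index_ne_zero_of_finite)
      (Subgroup.relIndex_dvd_index_of_normal A Z)

end Cfsg.Agent.SolvBlockBound
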