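import Cfsg.Agent.Lib.SolvBlockBound.Linear

/-! Weights of linear groups and the reducible step. -/

set_option autoImplicit false
set_option linter.style.haveILetI false

namespace Cfsg.Agent.SolvBlockBound

universe u

/-- A multiplicative weight on faithful representations satisfying `P`. -/
structure Weight (r : ℕ) [Fact r.Prime] where
  C : ℕ
  P : ∀ (L : Type u) [Group L], Prop
  val : ∀ {L V : Type u} [Group L] [AddCommGroup V] [Module (ZMod r) V], (L →* (V ≃ₗ[ZMod r] V)) → ℕ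
  solv : ∀ (L : Type u) [Group L] [Finite L], P L → Group.IsSolvable L
  noR : ∀ (L : Type u) [Group L] [Finite L], P L → Cfsg.pCore r L = ⊥
  normal : ∀ (L : Type u) [Group L] [Finite L], P L → ∀ B : Subgroup L, B.Normal → P B
  image : ∀ {L V : Type u} [Group L] [Finite L] [AddCommGroup V] [Module (ZMod r) V] [Finite V] [Nontrivial V]
    (σ : L →* (V ≃ₗ[ZMod r] V)), P L → Irred σ.range.subtype → P σ.range
  split : ∀ {L V : Type u} [Group L] [Finite L] [AddCommGroup V] [Module (ZMod r) V] [Finite V]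
    (ρ : L →* (V ≃ₗ[ZMod r] V)) (W : Submodule (ZMod r) V) (h : Inv ρ W), Function.Injective ρ → P L →
    val ρ ≤ val ((restr ρ W h).comp (quot ρ W h).ker.subtype) * val (quot ρ W h).range.subtype
  ext : ∀ {L V : Type u} [Group L] [Finite L] [AddCommGroup V] [Module (ZMod r) V] [Finite V]
    (ρ : L →* (V ≃ₗ[ZMod r] V)) (B : Subgroup L) [B.Normal], Function.Injective ρ → P L →
    val ρ ≤ val (ρ.comp B.subtype) * hcc (L ⧸ B)

variable {r : ℕ} [Fact r.Prime]

/-- The bound in dimension `D`, improved by every step of a chain. -/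
def Weight.Bound (ω : Weight.{u} r) (D : ℕ) : Prop :=
  ∀ (L V : Type u) [Group L] [Finite L] [AddCommGroup V] [Module (ZMod r) V] [Finite V]
    (ρ : L →* (V ≃ₗ[ZMod r] V)), Function.Injective ρ → ω.P L → Module.finrank (ZMod r) V = D →
    ∀ t, 1 ≤ t → Chain ρ t → ω.val ρ * 3 ^ t ≤ ω.C ^ D

theorem exists_maximal_inv {L V : Type u} [Group L] [AddCommGroup V] [Module (ZMod r) V] [Finite V]
    (ρ : L →* (V ≃ₗ[ZMod r] V)) (hred : ¬ Irred ρ) :
    ∃ W, Inv ρ W ∧ W ≠ ⊥ ∧ W ≠ ⊤ ∧ ∀ U, Inv ρ U → W ≤ U → U = W ∨ U = ⊤ := by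
  unfold Irred at hred
  push Not at hred
  obtain ⟨W₀, hW₀, hb, ht⟩ := hred
  obtain ⟨W, hle, hmax⟩ := Finite.exists_le_maximal (α := Submodule (ZMod r) V)
    (p := fun W => Inv ρ W ∧ W ≠ ⊤) (a := W₀) ⟨hW₀, ht⟩
  refine ⟨W, hmax.prop.1, fun h => hb (le_bot_iff.mp (h ▸ hle)), hmax.prop.2, fun U hU hWU => ?_⟩
  by_cases hUt : U = ⊤
  · exact Or.inr hUt
  · exact Or.inl (le_antisymm (hmax.2 ⟨hU, hUt⟩ hWU) hWU)

theorem quot_irred {L V : Type u} [Group L] [AddCommGroup V] [Module (ZMod r) V]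
    (ρ : L →* (V ≃ₗ[ZMod r] V)) (W : Submodule (ZMod r) V) (hW : Inv ρ W)
    (hmax : ∀ U, Inv ρ U → W ≤ U → U = W ∨ U = ⊤) : Irred (quot ρ W hW).range.subtype := by
  intro S hS
  have hinv : Inv ρ (S.comap W.mkQ) := fun g v hv => hS ⟨_, g, rfl⟩ _ hv
  have hle : W ≤ S.comap W.mkQ := fun w hw => by
    show W.mkQ w ∈ S
    rw [Submodule.mkQ_apply, (Submodule.Quotient.mk_eq_zero W).mpr hw]
    exact S.zero_mem
  have hS' : S = (S.comap W.mkQ).map W.mkQ :=
    (Submodule.map_comap_eq_of_surjective W.mkQ_surjective S).symm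
  rcases hmax _ hinv hle with e | e
  · refine Or.inl ?_
    rw [hS', e, Submodule.mkQ_map_self]
  · refine Or.inr ?_
    rw [hS', e, Submodule.map_top, Submodule.range_mkQ]

/-- The reducible step. -/
theorem Weight.reducible (ω : Weight.{u} r) {D : ℕ} (IH : ∀ D' < D, 0 < D' → ω.Bound D')
    {L V : Type u} [Group L] [Finite L] [AddCommGroup V] [Module (ZMod r) V] [Finite V]
    (ρ : L →* (V ≃ₗ[ZMod r] V)) (hρ : Function.Injective ρ) (hP : ω.P L)
    (hD : Module.finrank (ZMod r) V = D) (hred : ¬ Irred ρ) {t : ℕ} (ht : 1 ≤ t) (hc : Chain ρ t) :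
    ω.val ρ * 3 ^ t ≤ ω.C ^ D := by
  obtain ⟨W, hW, hWb, hWt, hmax⟩ := exists_maximal_inv ρ hred
  haveI : Nontrivial W := Submodule.nontrivial_iff_ne_bot.mpr hWb
  haveI : Nontrivial (V ⧸ W) := Submodule.Quotient.nontrivial_iff.mpr hWt
  haveI : Finite (V ⧸ W) := Finite.of_surjective _ W.mkQ_surjective
  have hw : Module.finrank (ZMod r) W < D := hD ▸ Submodule.finrank_lt hWt
  have hq : Module.finrank (ZMod r) (V ⧸ W) + Module.finrank (ZMod r) W = D :=
    hD ▸ W.finrank_quotient_add_finrank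
  have hW0 : 0 < Module.finrank (ZMod r) W := Module.finrank_pos
  set K := (quot ρ W hW).ker
  have hKinj : Function.Injective ((restr ρ W hW).comp K.subtype) := by
    rw [← MonoidHom.ker_eq_bot_iff, Subgroup.eq_bot_iff_forall]
    intro k hk
    have : (k : L) ∈ (restr ρ W hW).ker ⊓ K := ⟨hk, k.2⟩
    rw [ker_inf_eq_bot hρ (ω.noR L hP) W hW, Subgroup.mem_bot] at this
    exact Subtype.ext this
  have hchain : Chain ((restr ρ W hW).comp K.subtype) (max 1 (t - 1)) := by
    rcases le_total (t - 1) 1 with h | h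
    · rw [max_eq_left h]; exact chain_one _
    · rw [max_eq_right h]
      obtain ⟨U, hU, hlt⟩ := chain_restr hW hmax hc
      exact ⟨U, fun i hi k w hw => hU i hi (k : L) w hw, hlt⟩
  have h1 := IH _ hw hW0 K W ((restr ρ W hW).comp K.subtype) hKinj (ω.normal L hP K inferInstance) rfl _
    (le_max_left _ _) hchain
  have h2 := IH (Module.finrank (ZMod r) (V ⧸ W)) (by omega) Module.finrank_pos (quot ρ W hW).range (V ⧸ W)
    (quot ρ W hW).range.subtype Subtype.val_injective (ω.image _ hP (quot_irred ρ W hW hmax)) rfl 1 le_rfl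
    (chain_one _)
  calc ω.val ρ * 3 ^ t
      ≤ (ω.val ((restr ρ W hW).comp K.subtype) * ω.val (quot ρ W hW).range.subtype) *
          (3 ^ max 1 (t - 1) * 3 ^ 1) := by
        refine Nat.mul_le_mul (ω.split ρ W hW hρ hP) ?_
        rw [← pow_add]; exact Nat.pow_le_pow_right (by norm_num) (by omega)
    _ = (ω.val ((restr ρ W hW).comp K.subtype) * 3 ^ max 1 (t - 1)) *
          (ω.val (quot ρ W hW).range.subtype * 3 ^ 1) := by ring
    _ ≤ ω.C ^ Module.finrank (ZMod r) W * ω.C ^ Module.finrank (ZMod r) (V ⧸ W) := Nat.mul_le_mul h1 h2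
    _ = _ := by rw [← pow_add, add_comm, hq]

/-- The bound follows from the irreducible case. -/
theorem Weight.bound_of_irred (ω : Weight.{u} r) {D : ℕ} (hD0 : 0 < D) (IH : ∀ D' < D, 0 < D' → ω.Bound D')
    (h : ∀ (L V : Type u) [Group L] [Finite L] [AddCommGroup V] [Module (ZMod r) V] [Finite V]
      (ρ : L →* (V ≃ₗ[ZMod r] V)), Function.Injective ρ → ω.P L → Module.finrank (ZMod r) V = D → Irred ρ →
      ω.val ρ * 3 ≤ ω.C ^ D) : ω.Bound D := by
  intro L V _ _ _ _ _ ρ hρ hP hD t ht hc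
  by_cases hirr : Irred ρ
  · obtain rfl : t = 1 := by
      by_contra hne
      obtain ⟨U, hU, hlt⟩ := hc
      rcases hirr (U 1) (hU 1 (by omega)) with e | e
      · exact not_lt_bot (e ▸ hlt 0 (by omega))
      · exact not_top_lt (e ▸ hlt 1 (by omega))
    rw [pow_one]
    exact h L V ρ hρ hP hD hirr
  · exact ω.reducible IH ρ hρ hP hD hirr ht hc

end Cfsg.Agent.SolvBlockBound
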